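import Cfsg.Agent.H44.PSL2Degrees
import Cfsg.Agent.H28.SmallOrders.L33.Values
import Cfsg.Agent.H45.NormalSylow
import Cfsg.Agent.H1.PSLSimple
import Cfsg.Agent.H26.CharPerm
import Cfsg.Agent.H63.AltSevenTransitive
import Cfsg.Agent.S0494
import Cfsg.Agent.S0495
import Cfsg.Agent.S0497
import Cfsg.Agent.S0498
import Cfsg.Agent.S0981
import Cfsg.Agent.S0984
import Cfsg.Agent.S1011
import Cfsg.Agent.S1020
import Cfsg.Agent.S1021
import Cfsg.Agent.S2551
import Cfsg.Agent.S3669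

/-!
# Character degrees of the simple groups of order below 6000
-/

set_option autoImplicit false
set_option synthInstance.maxSize 1024

namespace Cfsg.Agent.H28.DegreeGraph

open Matrix

variable {S : Type*} [Group S] [Finite S] [IsSimpleGroup S]

theorem vertex_of_mem {G : Type*} [Group G] {p d : ℕ} (hp : p.Prime)
    (hd : d ∈ Cfsg.charDegrees G) (h : p ∣ d) : p ∈ Cfsg.degreePrimes G :=
  ⟨hp, d, hd, h⟩

theorem exists_not_sq_eq_one {F : Type*} [Field F] [Fintype F] (h : 4 ≤ Fintype.card F) :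
    ∃ x : F, x ≠ 0 ∧ x ^ 2 ≠ 1 := by
  classical
  by_contra hc
  push Not at hc
  have hsub : (Finset.univ : Finset F) ⊆ {0, 1, -1} := by
    intro x _
    simp only [Finset.mem_insert, Finset.mem_singleton]
    by_cases h0 : x = 0
    · exact Or.inl h0
    · exact Or.inr (sq_eq_one_iff.mp (hc x h0))
  have := (Finset.card_le_card hsub).trans Finset.card_le_three
  rw [Finset.card_univ] at this
  omega

theorem degree_sixty (h : Nat.card S = 60) : 5 ∈ Cfsg.degreePrimes S := by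
  obtain ⟨e⟩ := S0494.result h
  have := H44.charDegrees_eq_of_equiv e
  obtain ⟨hp, d, hd, h5⟩ := S3669.five_mem_degreePrimes
  exact ⟨hp, d, this ▸ hd, h5⟩

theorem degree_168 (h : Nat.card S = 168) :
    7 ∈ Cfsg.degreePrimes S ∧ 2 ∈ Cfsg.degreePrimes S ∧ ∃ d ∈ Cfsg.charDegrees S, 6 ∣ d := by
  have : Fact (Nat.Prime 7) := ⟨by norm_num⟩
  obtain ⟨e⟩ := S0495.result h (F := ZMod 7) (ZMod.card 7)
  have he := H44.charDegrees_eq_of_equiv e
  have h7 := H44.card_mem_charDegrees_psl (F := ZMod 7)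
  obtain ⟨-, h8, h6⟩ := H44.sl2_odd_degrees (F := ZMod 7) (k := 3) (by rw [ZMod.card]) le_rfl
  rw [← he, ZMod.card] at h7
  rw [← he] at h6 h8
  exact ⟨vertex_of_mem (by norm_num) h7 dvd_rfl, vertex_of_mem Nat.prime_two h8 (by norm_num),
    6, h6, dvd_rfl⟩

theorem degree_504 (h : Nat.card S = 504) :
    7 ∈ Cfsg.degreePrimes S ∧ 2 ∈ Cfsg.degreePrimes S ∧
      ∀ d ∈ Cfsg.charDegrees S, ¬ 6 ∣ d ∧ ¬ 14 ∣ d := by
  have := Fintype.ofFinite (GaloisField 2 3)
  have hF : Fintype.card (GaloisField 2 3) = 8 := by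
    rw [← Nat.card_eq_fintype_card, GaloisField.card 2 3 (by norm_num)]; norm_num
  obtain ⟨e⟩ := S1011.result h hF
  have he := (H44.charDegrees_eq_of_equiv e).trans H44.charDegrees_psl_eq_of_char_two
  obtain ⟨hall, h7, -⟩ := H44.sl2_even_degrees (F := GaloisField 2 3) (by rw [hF]; norm_num)
  have h8 : Fintype.card (GaloisField 2 3) ∈ Cfsg.charDegrees S := by
    rw [H44.charDegrees_eq_of_equiv e]; exact H44.card_mem_charDegrees_psl
  rw [← he, hF] at h7
  rw [hF] at h8
  refine ⟨vertex_of_mem (by norm_num) h7 (by norm_num), vertex_of_mem Nat.prime_two h8 (by norm_num),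
    fun d hd => ?_⟩
  rw [he] at hd
  have := hall d hd
  rw [hF] at this
  omega

theorem degree_prime_of_psl {p : ℕ} [Fact p.Prime]
    (e : S ≃* Matrix.ProjectiveSpecialLinearGroup (Fin 2) (ZMod p)) : p ∈ Cfsg.degreePrimes S := by
  have h := H44.card_mem_charDegrees_psl (F := ZMod p)
  rw [← H44.charDegrees_eq_of_equiv e, ZMod.card] at h
  exact vertex_of_mem Fact.out h dvd_rfl

theorem degree_660 (h : Nat.card S = 660) : 11 ∈ Cfsg.degreePrimes S := by
  have : Fact (Nat.Prime 11) := ⟨by norm_num⟩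
  obtain ⟨e⟩ := S0498.result (G := S) 11 (Or.inl rfl) (by rw [h]; norm_num) (ZMod.card 11)
  exact degree_prime_of_psl e

theorem degree_1092 (h : Nat.card S = 1092) : 13 ∈ Cfsg.degreePrimes S := by
  have : Fact (Nat.Prime 13) := ⟨by norm_num⟩
  obtain ⟨e⟩ := S0498.result (G := S) 13 (Or.inr rfl) (by rw [h]; norm_num) (ZMod.card 13)
  exact degree_prime_of_psl e

theorem degree_2448 (h : Nat.card S = 2448) : 17 ∈ Cfsg.degreePrimes S := by
  have : Fact (Nat.Prime 17) := ⟨by norm_num⟩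
  obtain ⟨e⟩ := S1020.result h (F := ZMod 17) (ZMod.card 17)
  exact degree_prime_of_psl e

theorem degree_3420 (h : Nat.card S = 3420) : 19 ∈ Cfsg.degreePrimes S := by
  have : Fact (Nat.Prime 19) := ⟨by norm_num⟩
  obtain ⟨e⟩ := S1021.result h (F := ZMod 19) (ZMod.card 19)
  exact degree_prime_of_psl e

theorem degree_4080 (h : Nat.card S = 4080) : 17 ∈ Cfsg.degreePrimes S := by
  have := Fintype.ofFinite (GaloisField 2 4)
  have hF : Fintype.card (GaloisField 2 4) = 16 := by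
    rw [← Nat.card_eq_fintype_card, GaloisField.card 2 4 (by norm_num)]; norm_num
  obtain ⟨e⟩ := S0981.result h hF
  have he := (H44.charDegrees_eq_of_equiv e).trans H44.charDegrees_psl_eq_of_char_two
  obtain ⟨-, -, h17⟩ := H44.sl2_even_degrees (F := GaloisField 2 4) (by rw [hF]; norm_num)
  rw [← he, hF] at h17
  exact vertex_of_mem (by norm_num) h17 (by norm_num)

theorem degree_360 (h : Nat.card S = 360) :
    (∀ d ∈ Cfsg.charDegrees S, ¬ 6 ∣ d) ∧ ∃ d ∈ Cfsg.charDegrees S, 10 ∣ d := by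
  have : Fact (Nat.Prime 3) := ⟨Nat.prime_three⟩
  have := Fintype.ofFinite (GaloisField 3 2)
  have hF : Fintype.card (GaloisField 3 2) = 9 := by
    rw [← Nat.card_eq_fintype_card, GaloisField.card 3 2 (by norm_num)]; norm_num
  have : IsSimpleGroup (Matrix.ProjectiveSpecialLinearGroup (Fin 2) (GaloisField 3 2)) :=
    H1.isSimpleGroup_PSL (Or.inr (exists_not_sq_eq_one (by rw [hF]; norm_num)))
  have hcard : Nat.card (Matrix.ProjectiveSpecialLinearGroup (Fin 2) (GaloisField 3 2)) = 360 := by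
    have := H6.card_psl2_mul (F := GaloisField 3 2) hF
    norm_num at this
    omega
  obtain ⟨e⟩ := S0497.result h
  obtain ⟨e'⟩ := S0497.result hcard
  have he := H44.charDegrees_eq_of_equiv (e.trans e'.symm)
  obtain ⟨hall, h10, -⟩ := H44.sl2_odd_degrees (F := GaloisField 3 2) (k := 4) (by rw [hF])
    (by norm_num)
  refine ⟨fun d hd => ?_, 10, he ▸ h10, dvd_rfl⟩
  rw [he] at hd
  have := hall d (H44.charDegrees_psl_subset hd)
  omega

/-- The degree fourteen of `A₇` from the action on fifteen points. -/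
theorem degree_2520 (h : Nat.card S = 2520) : ∃ d ∈ Cfsg.charDegrees S, 14 ∣ d := by
  classical
  obtain ⟨e⟩ := S0984.result h
  obtain ⟨⟨H, ⟨f⟩⟩, -⟩ := S2551.result (F := ZMod 2) (ZMod.card 2)
  have hH : Nat.card H = 2520 := by
    rw [Nat.card_congr (f.trans e.symm).toEquiv, h]
  let X := {v : Fin 4 → ZMod 2 // v ≠ 0}
  let _ : MulAction H X :=
    { smul := fun g v => ⟨(g : GL (Fin 4) (ZMod 2)) • v.1, H63.gl_smul_ne_zero v.2⟩
      one_smul := fun v => Subtype.ext (one_smul _ v.1)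
      mul_smul := fun g g' v => Subtype.ext (mul_smul _ _ v.1) }
  have hX : Nat.card X = 15 := by
    rw [Nat.card_eq_fintype_card]; decide
  have h2 : MulAction.IsMultiplyPretransitive H X 2 := by
    rw [MulAction.is_two_pretransitive_iff]
    intro v w v' w' hvw hv'w'
    obtain ⟨g, hg, h1, h2⟩ := H63.two_transitive_of_card (ZMod.card 2) H hH v.1 w.1 v'.1 w'.1 v.2 w.2
      (fun h => hvw (Subtype.ext h)) v'.2 w'.2 (fun h => hv'w' (Subtype.ext h))
    exact ⟨⟨g, hg⟩, Subtype.ext h1, Subtype.ext h2⟩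
  have hpre : MulAction.IsPretransitive H X := MulAction.isPretransitive_of_is_two_pretransitive
  have hirr := (H26.permChar_sub_one_irreducible_iff X (G := H) (by omega)).mpr h2
  have hmem : Cfsg.charDegree (H26.permChar X - fun _ : H => 1) ∈ Cfsg.charDegrees H :=
    ⟨⟨_, hirr⟩, rfl⟩
  have hd : Cfsg.charDegree (H26.permChar X - fun _ : H => 1) = 14 := by
    have h1 : MulAction.fixedBy X (1 : H) = Set.univ := by
      ext x; simp
    simp only [Cfsg.charDegree, Pi.sub_apply, H26.permChar, h1, Nat.card_univ, hX]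
    norm_num
  rw [hd] at hmem
  exact ⟨14, (H44.charDegrees_eq_of_equiv (e.trans f.symm)).symm ▸ hmem, dvd_rfl⟩

theorem degree_5616 (hS : ¬ IsMulCommutative S) (h : Nat.card S = 5616) :
    13 ∈ Cfsg.degreePrimes S ∧ 3 ∈ Cfsg.degreePrimes S := by
  classical
  have := Fintype.ofFinite S
  have : Fact (Nat.Prime 13) := ⟨by norm_num⟩
  obtain ⟨z, ⟨C⟩⟩ := L33.exists_chars hS h
  have hdeg : ∀ (χ : Cfsg.IrrCharacter S) (d : ℕ), χ.1 1 = (d : ℂ) →
      Cfsg.charDegree (χ : S → ℂ) = d := fun χ d hd => by simp [Cfsg.charDegree, hd]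
  refine ⟨?_, vertex_of_mem Nat.prime_three ⟨C.a, hdeg _ _ C.ha1⟩ (by norm_num)⟩
  choose d hd using fun χ : Cfsg.IrrCharacter S => (H30.irr_degree_facts hS χ)
  set s : Finset (Cfsg.IrrCharacter S) := insert (H26.oneIrr S) (insert C.a (insert C.b C.K)) with hs
  obtain ⟨χ, hχ⟩ : ∃ χ, χ ∉ s := by
    by_contra hc
    push Not at hc
    have hsum := H26.sum_sq_degrees (G := S)
    rw [← Finset.eq_univ_of_forall hc, hs,
      Finset.sum_insert (by simp [C.hao.symm, C.hbo.symm, C.hoK]),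
      Finset.sum_insert (by simp [C.hab, C.haK]), Finset.sum_insert C.hbK,
      Finset.sum_congr rfl (fun k hk => by rw [C.hK1 k hk] :
        ∀ k ∈ C.K, (k.1 1) ^ 2 = (((16 : ℕ) : ℂ)) ^ 2),
      Finset.sum_const, C.hK, C.ha1, C.hb1, H26.oneIrr_val, h] at hsum
    norm_num at hsum
  simp only [hs, Finset.mem_insert, not_or] at hχ
  have hz0 := C.hrest χ hχ.1 hχ.2.1 hχ.2.2.1 hχ.2.2.2
  obtain ⟨n, ρ, hρ, e⟩ := χ.2
  have hd' : Cfsg.charDegree (χ : S → ℂ) = Module.finrank ℂ (Fin n → ℂ) :=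
    hdeg χ _ (by rw [← e, ρ.char_one])
  refine ⟨by norm_num, _, ⟨χ, rfl⟩, ?_⟩
  by_contra h13
  rw [hd'] at h13
  refine H45.char_ne_zero_of_prime_to_degree ρ 13 h13 z (k := 1) ?_ ?_
  · rw [pow_one, ← C.hz, pow_orderOf_eq_one]
  · rw [congrFun e z, hz0]

end Cfsg.Agent.H28.DegreeGraph
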