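import Cfsg.Agent.H28.DegreeGraph.Sections
import Cfsg.Agent.H28.DegreeGraph.Degrees
import Cfsg.Agent.H44.NormalDegrees
import Cfsg.Agent.H44.RelDegreeComponents
import Cfsg.Agent.H44.Codegree
import Cfsg.Agent.H26.PF.DegreeTools
import Cfsg.Agent.S0887

/-!
# Transfer of degrees between a group, a normal subgroup and a section
-/

set_option autoImplicit false
set_option synthInstance.maxSize 1024

namespace Cfsg.Agent.H28.DegreeGraph

open Subgroup

variable {G : Type*} [Group G] [Finite G]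

/-- A degree of a normal section divides a degree of the group. -/
theorem lift_dvd (L : Subgroup G) [L.Normal] (M : Subgroup L) [M.Normal] {t : ℕ}
    (ht : t ∈ Cfsg.charDegrees (L ⧸ M)) : ∃ d ∈ Cfsg.charDegrees G, t ∣ d := by
  classical
  have := Fintype.ofFinite G
  have := Fintype.ofFinite L
  obtain ⟨ψ, rfl⟩ := ht
  obtain ⟨χ, hχ⟩ := H44.exists_irr_over L (H44.inflate M ψ)
  refine ⟨_, ⟨χ, rfl⟩, ?_⟩
  rw [← H44.charDegree_inflate M ψ]
  exact (dvd_mul_left _ _).trans (H44.degree_mul_index_inertia_dvd L χ _ hχ)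

/-- A divisor prime to the index of a degree of the group divides a degree of a normal subgroup. -/
theorem dvd_lower (L : Subgroup G) [L.Normal] {n d : ℕ} (hd : d ∈ Cfsg.charDegrees G) (hnd : n ∣ d)
    (hcop : n.Coprime L.index) :
    ∃ t ∈ Cfsg.charDegrees L, n ∣ t ∧ 0 < t ∧ t ^ 2 ≤ Nat.card L := by
  classical
  have := Fintype.ofFinite G
  have := Fintype.ofFinite L
  obtain ⟨χ, rfl⟩ := hd
  obtain ⟨θ, hθ⟩ := H44.RelGraph.exists_constituent (N := L) χ
  obtain ⟨hdvd, hidx⟩ := S0887.result L χ.1 χ.2 θ.1 θ.2 hθ (Cfsg.charDegree (χ : G → ℂ))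
    (Cfsg.charDegree (θ : L → ℂ)) (H44.cast_charDegree χ).symm (H44.cast_charDegree θ).symm
  refine ⟨_, ⟨θ, rfl⟩, ?_, H43.irr_charDegree_pos θ, ?_⟩
  · refine hcop.dvd_of_dvd_mul_left (hnd.trans ?_)
    rw [← Nat.div_mul_cancel hdvd]
    exact Nat.mul_dvd_mul_right hidx _
  · rw [← index_bot (G := L)]
    exact H26.PF.degree_sq_le_index θ ⊥ (fun z hz g => by
      rw [mem_bot.mp hz, one_mul, inv_one, mul_one, mul_inv_cancel]
      exact one_mem _) (H44.cast_charDegree θ).symm

/-- Exceptions among the prime powers dividing a number, checked over a list of primes. -/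
theorem bad_of_list {N r q₀ a₀ : ℕ} (l : List ℕ) (hl : ∀ p ∈ l, p.Prime) (hN0 : N ≠ 0)
    (hN : N ∣ l.prod ^ 13) (hN2 : N < 2 ^ 13)
    (h : ∀ p ∈ l, ∀ i ∈ List.range 13, p ^ i ∣ N → p ^ i % r = 1 → i = 0 ∨ p = q₀ ∧ i = a₀) :
    ∀ q i : ℕ, q.Prime → 0 < i → q ^ i ∣ N → q ^ i % r = 1 → q = q₀ ∧ i = a₀ := by
  intro q i hq hi hd hm
  have h1 : q ∣ l.prod := hq.dvd_of_dvd_pow ((dvd_pow_self q hi.ne').trans (hd.trans hN))
  have hql : q ∈ l := mem_list_primes_of_dvd_prod hq.prime (fun p hp => (hl p hp).prime) h1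
  have hi13 : i < 13 := by
    by_contra hh
    have h2 : 2 ^ 13 ≤ q ^ i :=
      (Nat.pow_le_pow_right (by norm_num) (by omega : 13 ≤ i)).trans (Nat.pow_le_pow_left hq.two_le i)
    have := Nat.le_of_dvd (Nat.pos_of_ne_zero hN0) hd
    omega
  exact (h q hql i (List.mem_range.mpr hi13) hd hm).resolve_left hi.ne'

/-- No prime power dividing a number is one modulo `r`, checked over a list of primes. -/
theorem good_of_list {N r : ℕ} (l : List ℕ) (hl : ∀ p ∈ l, p.Prime) (hN0 : N ≠ 0)
    (hN : N ∣ l.prod ^ 13) (hN2 : N < 2 ^ 13)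
    (h : ∀ p ∈ l, ∀ i ∈ List.range 13, p ^ i ∣ N → p ^ i % r = 1 → i = 0) :
    ∀ q i : ℕ, q.Prime → 0 < i → q ^ i ∣ N → q ^ i % r ≠ 1 := fun q i hq hi hd hm =>
  hq.ne_zero (bad_of_list (q₀ := 0) (a₀ := 0) l hl hN0 hN hN2
    (fun p hp j hj hd' hm' => Or.inl (h p hp j hj hd' hm')) q i hq hi hd hm).1

theorem prime_list : ∀ p ∈ [2, 3, 5, 7, 11, 13, 17, 19], Nat.Prime p := by
  intro p hp
  fin_cases hp <;> norm_num

/-- A number all of whose prime factors are at most 19 has no bad prime power. -/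
theorem good_small {N r : ℕ} (hN0 : N ≠ 0) (hN : N ∣ [2, 3, 5, 7, 11, 13, 17, 19].prod ^ 13)
    (hN2 : N < 2 ^ 13)
    (h : ∀ p ∈ [2, 3, 5, 7, 11, 13, 17, 19], ∀ i ∈ List.range 13,
      p ^ i ∣ N → p ^ i % r = 1 → i = 0) :
    ∀ q i : ℕ, q.Prime → 0 < i → q ^ i ∣ N → q ^ i % r ≠ 1 :=
  good_of_list _ prime_list hN0 hN hN2 h

/-- Outside the simple section, in the cases where no prime power is bad. -/
theorem not_mem_of_section_good {r m k s : ℕ} [hr : Fact r.Prime] (hcard : Nat.card G = r * m)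
    (hm : ¬ r ∣ m) (L : Subgroup G) [L.Normal] (hL : commutator L = ⊤) (M : Subgroup L) [M.Normal]
    [IsSimpleGroup (L ⧸ M)] (hna : ¬ IsMulCommutative (L ⧸ M)) (hs : Nat.card (L ⧸ M) = s)
    (hk : r * m = s * k) (hk0 : 0 < k) (hk6 : k ≤ 6232) (hrs : ¬ r ∣ s)
    (hno : ∀ t ∈ simpleOrders, ¬ t ∣ k)
    (hkgood : ∀ q i : ℕ, q.Prime → 0 < i → q ^ i ∣ k → q ^ i % r ≠ 1)
    (hmgood : ∀ q i : ℕ, q.Prime → 0 < i → q ^ i ∣ m → q ^ i % r ≠ 1) :
    r ∉ Cfsg.degreePrimes G := by
  have hR : ∀ R : Sylow r G, Nat.card (R : Subgroup G) = r := fun R => by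
    simpa using H30.card_sylow_subgroup (a := 1) R (by rw [hcard, pow_one]) hm
  refine not_mem_of_section hcard hm L hL M hna hs hk hk0 hk6 hrs hno ?_ fun R hrL =>
    centralizes_of_good L R (hR R) hrL fun p i hp hi hd => hmgood p i hp hi ?_
  · intro d hd hpp
    obtain ⟨q, i, hq, hi, rfl⟩ := (isPrimePow_nat_iff d).mp hpp
    exact hkgood q i hq hi (Nat.dvd_of_mem_divisors hd)
  · exact hd.trans (((hr.out.coprime_iff_not_dvd.mpr hrL).symm).dvd_of_dvd_mul_left
      (hcard ▸ L.card_subgroup_dvd_card))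

/-- The prime seven outside a section of order 60 or 360 in a group of order 2520. -/
theorem seven_not_mem (hcard : Nat.card G = 2520) (L : Subgroup G) [L.Normal]
    (hL : commutator L = ⊤) (M : Subgroup L) [M.Normal] [IsSimpleGroup (L ⧸ M)]
    (hna : ¬ IsMulCommutative (L ⧸ M))
    (hs : Nat.card (L ⧸ M) = 60 ∨ Nat.card (L ⧸ M) = 360) : 7 ∉ Cfsg.degreePrimes G := by
  have : Fact (Nat.Prime 7) := ⟨by norm_num⟩
  have hcard' : Nat.card G = 7 * 360 := by rw [hcard]
  have hLgood : ∀ R : Sylow 7 G, ¬ 7 ∣ Nat.card L →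
      L ≤ centralizer ((R : Subgroup G) : Set G) := by
    intro R h7
    have hR : Nat.card (R : Subgroup G) = 7 := by
      simpa using H30.card_sylow_subgroup (a := 1) (m := 360) R (by rw [hcard]; norm_num) (by norm_num)
    have hd : Nat.card L ∣ 360 :=
      (((by norm_num : Nat.Prime 7).coprime_iff_not_dvd.mpr h7).symm).dvd_of_dvd_mul_left
        (hcard' ▸ L.card_subgroup_dvd_card)
    obtain ⟨j, hj⟩ : 60 ∣ Nat.card L := by
      have h1 : Nat.card (L ⧸ M) ∣ Nat.card L := index_eq_card M ▸ index_dvd_card M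
      rcases hs with h | h <;> rw [h] at h1 <;> omega
    have hj6 : j ∣ 6 := Nat.dvd_of_mul_dvd_mul_left (by norm_num : 0 < 60) (hj ▸ hd)
    have hj' : j = 1 ∨ j = 2 ∨ j = 3 ∨ j = 6 := by
      have := Nat.le_of_dvd (by norm_num) hj6
      have : 0 < j := Nat.pos_of_dvd_of_pos hj6 (by norm_num)
      interval_cases j <;> omega
    rcases hj' with rfl | rfl | rfl | rfl
    · exact centralizes_of_good L R hR h7 (by
        rw [hj]; exact good_small (by norm_num) (by decide) (by norm_num) (by decide))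
    · exact centralizes_seven L hL (Or.inl hj) R hR
    · exact centralizes_of_good L R hR h7 (by
        rw [hj]; exact good_small (by norm_num) (by decide) (by norm_num) (by decide))
    · exact centralizes_seven L hL (Or.inr hj) R hR
  have hkbad : ∀ k, k ∣ 42 → ∀ d ∈ k.divisors, IsPrimePow d → d % 7 ≠ 1 := by
    intro k hk d hd hpp
    obtain ⟨q, i, hq, hi, rfl⟩ := (isPrimePow_nat_iff d).mp hpp
    exact good_small (N := 42) (by norm_num) (by decide) (by norm_num) (by decide) q i hq hi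
      ((Nat.dvd_of_mem_divisors hd).trans hk)
  rcases hs with h | h
  · exact not_mem_of_section (k := 42) hcard' (by norm_num) L hL M hna h (by norm_num) (by norm_num)
      (by norm_num) (by norm_num) (by decide) (hkbad 42 dvd_rfl) hLgood
  · exact not_mem_of_section (k := 7) hcard' (by norm_num) L hL M hna h (by norm_num) (by norm_num)
      (by norm_num) (by norm_num) (by decide) (hkbad 7 (by norm_num)) hLgood

/-- No degree is divisible by fourteen with a section of order 168 or 504 in order 2520. -/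
theorem no_fourteen (hcard : Nat.card G = 2520) (L : Subgroup G) [L.Normal]
    (hL : commutator L = ⊤) (M : Subgroup L) [M.Normal] [IsSimpleGroup (L ⧸ M)]
    (hs : Nat.card (L ⧸ M) = 168 ∨ Nat.card (L ⧸ M) = 504) {d : ℕ}
    (hd : d ∈ Cfsg.charDegrees G) (h14 : 14 ∣ d) : False := by
  have : Fact (Nat.Prime 5) := ⟨by norm_num⟩
  have : Fact (Nat.Prime 3) := ⟨Nat.prime_three⟩
  have hLd := L.card_subgroup_dvd_card
  rw [hcard] at hLd
  have hLM : Nat.card L = Nat.card M * Nat.card (L ⧸ M) := by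
    rw [← index_eq_card, M.card_mul_index]
  have hM15 : Nat.card M ∣ 15 := by
    rcases hs with h | h
    · rw [hLM, h] at hLd
      exact Nat.dvd_of_mul_dvd_mul_right (by norm_num : 0 < 168) hLd
    · rw [hLM, h] at hLd
      have h5' : Nat.card M * 504 ∣ 5 * 504 := hLd
      exact (Nat.dvd_of_mul_dvd_mul_right (by norm_num : 0 < 504) h5').trans (by norm_num)
  have hone : ∀ p, p = 5 ∨ p = 3 → ∀ j, j ∣ Nat.card M → j % p = 1 → j = 1 := by
    intro p hp j hj h1
    have hj15 := hj.trans hM15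
    have := Nat.le_of_dvd (by norm_num) hj15
    rcases hp with rfl | rfl <;> interval_cases j <;> omega
  have h5 : ¬ 5 ∣ Nat.card M := not_dvd_card_normal hL M
    (fun h => by have := h.trans hM15; norm_num at this)
    (fun h => by have := h.trans hLd; norm_num at this) (hone 5 (Or.inl rfl))
  have h3 : ¬ 3 ∣ Nat.card M := not_dvd_card_normal hL M
    (fun h => by have := h.trans hM15; norm_num at this)
    (fun h => by have := h.trans hLd; norm_num at this) (hone 3 (Or.inr rfl))
  have hM1 : Nat.card M = 1 := by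
    have := Nat.le_of_dvd (by norm_num) hM15
    have : 0 < Nat.card M := Nat.card_pos
    generalize Nat.card M = j at *
    interval_cases j <;> omega
  have hLcard : Nat.card L = Nat.card (L ⧸ M) := by rw [hLM, hM1, one_mul]
  have hidx := L.index_mul_card
  rw [hcard, hLcard] at hidx
  obtain ⟨t, ht, h14t, htpos, hsq⟩ := dvd_lower L hd h14 (by
    rcases hs with h | h <;> rw [h] at hidx
    · rw [show L.index = 15 by omega]; norm_num
    · rw [show L.index = 5 by omega]; norm_num)
  rw [hLcard] at hsq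
  rcases hs with h | h
  · rw [h] at hsq
    have := Nat.le_of_dvd htpos h14t
    nlinarith
  · have e : (L ⧸ M) ≃* L :=
      (QuotientGroup.quotientMulEquivOfEq (card_eq_one.mp hM1)).trans QuotientGroup.quotientBot
    have : IsSimpleGroup L := e.symm.isSimpleGroup
    exact ((degree_504 (by rw [hLcard, h])).2.2 t ht).2 h14t

end Cfsg.Agent.H28.DegreeGraph
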