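import Cfsg.Agent.H28.DegreeGraph.Perfect
import Cfsg.Agent.H44.PSL2Degrees
import Cfsg.Agent.H44.NormalDegrees
import Cfsg.Agent.H44.RelDegreeComponents
import Cfsg.Agent.H43.CoprimeRestrict
import Cfsg.Agent.H26.PF.DegreeTools
import Cfsg.Agent.H56.Clifford
import Cfsg.Agent.H1.PSLSimple
import Cfsg.Agent.S0494
import Cfsg.Agent.S0887

/-!
# No non-simple group of order 360 has the degree graph of `A₆`

Such a group is nonsolvable with a normal `A₅`, and then it has a degree divisible by six or none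
divisible by ten.
-/

set_option autoImplicit false
set_option synthInstance.maxSize 1024

namespace Cfsg.Agent.H28.DegreeGraph

open Subgroup
open scoped ComplexConjugate

variable {L : Type*} [Group L] [Finite L] [IsSimpleGroup L]

/-- The characters of degree five and three of the simple group of order 60. -/
theorem sixty_characters (h : Nat.card L = 60) :
    (∀ ψ φ : Cfsg.IrrCharacter L, Cfsg.charDegree (ψ : L → ℂ) = 5 →
      Cfsg.charDegree (φ : L → ℂ) = 5 → ψ = φ) ∧ 3 ∈ Cfsg.charDegrees L := by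
  classical
  have : Fact (Nat.Prime 5) := ⟨by norm_num⟩
  have := Fintype.ofFinite (GaloisField 2 2)
  have hF : Fintype.card (GaloisField 2 2) = 4 := by
    rw [← Nat.card_eq_fintype_card, GaloisField.card 2 2 (by norm_num)]; norm_num
  have hx : ∀ {F : Type} [Field F] [Fintype F], 4 ≤ Fintype.card F → ∃ x : F, x ≠ 0 ∧ x ^ 2 ≠ 1 := by
    intro F _ _ h
    by_contra hc
    push Not at hc
    have hsub : (Finset.univ : Finset F) ⊆ {0, 1, -1} := by
      intro x _
      simp only [Finset.mem_insert, Finset.mem_singleton]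
      by_cases h0 : x = 0
      · exact Or.inl h0
      · exact Or.inr (sq_eq_one_iff.mp (hc x h0))
    have := (Finset.card_le_card hsub).trans Finset.card_le_three
    rw [Finset.card_univ] at this
    omega
  have : IsSimpleGroup (Matrix.ProjectiveSpecialLinearGroup (Fin 2) (ZMod 5)) :=
    H1.isSimpleGroup_PSL (Or.inr (hx (by rw [ZMod.card]; norm_num)))
  have : IsSimpleGroup (Matrix.ProjectiveSpecialLinearGroup (Fin 2) (GaloisField 2 2)) :=
    H1.isSimpleGroup_PSL (Or.inr (hx (by rw [hF])))
  have h5 : Nat.card (Matrix.ProjectiveSpecialLinearGroup (Fin 2) (ZMod 5)) = 60 := by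
    have := H6.card_psl2_mul (F := ZMod 5) (ZMod.card 5)
    rw [show Nat.gcd 2 (5 - 1) = 2 by decide] at this
    omega
  have h4 : Nat.card (Matrix.ProjectiveSpecialLinearGroup (Fin 2) (GaloisField 2 2)) = 60 := by
    have := H6.card_psl2_mul (F := GaloisField 2 2) hF
    rw [show Nat.gcd 2 (4 - 1) = 1 by decide] at this
    omega
  obtain ⟨a⟩ := S0494.result h
  obtain ⟨b⟩ := S0494.result h5
  obtain ⟨b'⟩ := S0494.result h4
  refine ⟨fun ψ φ hψ hφ => ?_, ?_⟩
  · let e := (b.trans a.symm)
    have h' := H44.subsingleton_degree_card (F := ZMod 5)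
      ⟨_, H56.isIrrCharacter_comp_equiv ψ.2 e⟩ ⟨_, H56.isIrrCharacter_comp_equiv φ.2 e⟩
      (by simpa [Cfsg.charDegree, ZMod.card] using hψ) (by simpa [Cfsg.charDegree, ZMod.card] using hφ)
    refine Subtype.ext (funext fun g => ?_)
    have := congrFun (congrArg Subtype.val h') (e.symm g)
    simpa using this
  · obtain ⟨-, h3, -⟩ := H44.sl2_even_degrees (F := GaloisField 2 2) (by rw [hF])
    rw [hF, ← H44.charDegrees_psl_eq_of_char_two] at h3
    exact (H44.charDegrees_eq_of_equiv (a.trans b'.symm)) ▸ h3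

theorem false_of_three_sixty {G : Type*} [Group G] [Finite G] (hcard : Nat.card G = 360)
    (L : Subgroup G) [L.Normal] (hL : commutator L = ⊤) (M : Subgroup L) [M.Normal]
    [IsSimpleGroup (L ⧸ M)] (hs : Nat.card (L ⧸ M) = 60)
    (h6 : ∀ d ∈ Cfsg.charDegrees G, ¬ 6 ∣ d) (h10 : ∃ d ∈ Cfsg.charDegrees G, 10 ∣ d) : False := by
  classical
  have := Fintype.ofFinite G
  have : Fact (Nat.Prime 3) := ⟨Nat.prime_three⟩
  have : Fact (Nat.Prime 2) := ⟨Nat.prime_two⟩
  have := Fintype.ofFinite L
  have hLM : Nat.card L = Nat.card M * 60 := by rw [← hs, ← index_eq_card, M.card_mul_index]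
  have hM6 : Nat.card M ∣ 6 := by
    have h := L.card_subgroup_dvd_card
    rw [hcard, hLM] at h
    exact Nat.dvd_of_mul_dvd_mul_right (by norm_num : 0 < 60) (h.trans (by norm_num : 360 ∣ 6 * 60))
  have hM3 : ¬ 3 ∣ Nat.card M := by
    refine not_dvd_card_normal hL M (fun h => ?_) (fun h => ?_) fun d hd h1 => ?_
    · have := h.trans hM6; norm_num at this
    · have := h.trans L.card_subgroup_dvd_card; rw [hcard] at this; norm_num at this
    · have hd6 : d ∣ 6 := hd.trans hM6
      have hle := Nat.le_of_dvd (by norm_num) hd6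
      interval_cases d <;> omega
  obtain ⟨_, ⟨χ, rfl⟩, hχ10⟩ := h10
  obtain ⟨θ, hθ⟩ := H44.RelGraph.exists_constituent (N := L) χ
  obtain ⟨hdvd, hidx⟩ := S0887.result L χ.1 χ.2 θ.1 θ.2 hθ (Cfsg.charDegree (χ : G → ℂ))
    (Cfsg.charDegree (θ : L → ℂ)) (H44.cast_charDegree χ).symm (H44.cast_charDegree θ).symm
  have hLidx : L.index * Nat.card L = 360 := by rw [L.index_mul_card, hcard]
  have hM2 : Nat.card M = 1 ∨ Nat.card M = 2 := by
    have hle := Nat.le_of_dvd (by norm_num) hM6
    have : 0 < Nat.card M := Nat.card_pos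
    generalize Nat.card M = j at *
    interval_cases j <;> omega
  rcases hM2 with hM1 | hM2
  swap
  · -- the double cover has no degree divisible by ten
    have h3 : L.index = 3 := by rw [hLM, hM2] at hLidx; omega
    rw [h3] at hidx
    have h10θ : 10 ∣ Cfsg.charDegree (θ : L → ℂ) := by
      refine (Nat.Coprime.dvd_of_dvd_mul_left (by norm_num : Nat.Coprime 10 3) ?_)
      refine hχ10.trans ?_
      rw [← Nat.div_mul_cancel hdvd]
      exact Nat.mul_dvd_mul_right hidx _
    have : IsCyclic M := isCyclic_of_prime_card hM2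
    have hMc := central_of_cyclic hL M
    have := H26.PF.degree_sq_le_index θ M (fun z hz g => by
      rw [show z * g * z⁻¹ * g⁻¹ = 1 by
        rw [← mem_center_iff.mp (hMc hz) g, mul_inv_cancel_right, mul_inv_cancel]]
      exact one_mem _) (H44.cast_charDegree θ).symm
    have hMi : M.index = 60 := by rw [index_eq_card, hs]
    rw [hMi] at this
    have hpos : 0 < Cfsg.charDegree (θ : L → ℂ) := H43.irr_charDegree_pos θ
    have := Nat.le_of_dvd hpos h10θ
    nlinarith
  have hMbot : M = ⊥ := card_eq_one.mp hM1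
  have : IsSimpleGroup L := by
    have e : (L ⧸ M) ≃* L := (QuotientGroup.quotientMulEquivOfEq hMbot).trans QuotientGroup.quotientBot
    exact e.symm.isSimpleGroup
  have hL60 : Nat.card L = 60 := by rw [hLM, hM1, one_mul]
  -- the five Sylow 2-subgroups of `L`
  have hn2 : Nat.card (Sylow 2 L) = 5 := by
    have hLc : ¬ IsMulCommutative L := by
      intro hc
      have hp : (Nat.card L).Prime := by
        let _ : CommGroup L := { (inferInstance : Group L) with mul_comm := hc.is_comm.comm }
        exact IsSimpleGroup.prime_card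
      rw [hL60] at hp; norm_num at hp
    have hd := H30.card_sylow_dvd (G := L) (p := 2) (a := 2) (m := 15) (by rw [hL60]; norm_num)
      (by norm_num)
    have hne := H30.card_sylow_ne_one hLc 2 (by rw [hL60]; norm_num)
    have hf := H30.two_mul_card_dvd_factorial_sylow hLc 2 (by rw [hL60]; norm_num)
    rw [hL60] at hf
    have hcases : Nat.card (Sylow 2 L) = 5 ∨ Nat.card (Sylow 2 L) = 15 := by
      have hle := Nat.le_of_dvd (by norm_num) hd
      have hpos : 0 < Nat.card (Sylow 2 L) := Nat.card_pos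
      generalize Nat.card (Sylow 2 L) = j at *
      interval_cases j <;> norm_num [Nat.factorial] at * <;> omega
    refine hcases.resolve_right fun h15 => ?_
    let P : Sylow 2 L := default
    have hP4 : Nat.card (P : Subgroup L) = 4 := by
      simpa using H30.card_sylow_subgroup (a := 2) (m := 15) P (by rw [hL60]; norm_num) (by norm_num)
    have hmul := H30.card_sylow_mul_normalizer 2 P
    rw [h15, hL60] at hmul
    have hNP : normalizer ((P : Subgroup L) : Set L) = (P : Subgroup L) :=
      (eq_of_le_of_card_ge le_normalizer (by rw [hP4]; omega)).symm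
    have : IsMulCommutative (P : Subgroup L) :=
      IsPGroup.isMulCommutative_of_card_eq_prime_sq (p := 2) (by rw [hP4]; norm_num)
    refine H30.not_normalizer_le_centralizer hLc 2 (by rw [hL60]; norm_num) P ?_
    rw [hNP]
    exact le_centralizer _
  let ψ₀ : G →* MulAut L := MulAut.conjNormal
  let act : MulDistribMulAction G L := MulDistribMulAction.compHom L ψ₀
  let perm : G →* Equiv.Perm (Sylow 2 L) := MulAction.toPermHom G (Sylow 2 L)
  set N := perm.ker with hNdef
  have hNL : L.subgroupOf N = ⊥ := by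
    rw [subgroupOf_eq_bot, disjoint_iff]
    by_contra hne
    have hn : ((N ⊓ L).subgroupOf L).Normal := inferInstance
    have hne' : (N ⊓ L).subgroupOf L ≠ ⊥ := by
      rw [Ne, subgroupOf_eq_bot, disjoint_iff, inf_assoc, inf_idem, inf_comm]
      exact hne
    have htop := (IsSimpleGroup.eq_bot_or_eq_top_of_normal _ hn).resolve_left hne'
    rw [subgroupOf_eq_top] at htop
    let P : Sylow 2 L := default
    let _ : MulAction L (Sylow 2 L) := Sylow.mulAction
    have hfix : ∀ (Q : Sylow 2 L) (l : L), l • Q = Q := by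
      intro Q l
      have h1 : (l : G) ∈ N := (htop l.2).1
      have h2 : (l : G) • Q = Q := Equiv.Perm.ext_iff.mp (MonoidHom.mem_ker.mp h1) Q
      refine Eq.trans (Sylow.ext ?_) h2
      ext x
      constructor
      · rintro ⟨w, hw, rfl⟩
        exact ⟨w, hw, Subtype.ext (MulAut.conjNormal_apply _ _)⟩
      · rintro ⟨w, hw, rfl⟩
        exact ⟨w, hw, Subtype.ext (MulAut.conjNormal_apply _ _).symm⟩
    have : Subsingleton (Sylow 2 L) := ⟨fun a b => by
      obtain ⟨l, hl⟩ := MulAction.exists_smul_eq L a b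
      rw [← hl, hfix a l]⟩
    have : Nat.card (Sylow 2 L) ≤ 1 := Finite.card_le_one_iff_subsingleton.mpr this
    omega
  have hN6 : Nat.card N ∣ 6 := by
    have h1 : (L.subgroupOf N).index ∣ L.index := relIndex_dvd_index_of_normal L N
    rw [hNL, index_bot] at h1
    rw [hL60] at hLidx
    rwa [show L.index = 6 by omega] at h1
  have hN3 : 3 ∣ Nat.card N := by
    have h1 := N.index_mul_card
    rw [index_ker, hcard] at h1
    have hr : Nat.card perm.range ∣ 120 := by
      refine perm.range.card_subgroup_dvd_card.trans ?_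
      rw [Nat.card_perm, hn2]; decide
    obtain ⟨j, hj⟩ := hr
    have h2 : Nat.card perm.range * (3 * j) = Nat.card perm.range * Nat.card N := by
      rw [h1, mul_left_comm, ← hj]; norm_num
    exact ⟨j, (Nat.eq_of_mul_eq_mul_left Nat.card_pos h2).symm⟩
  have hNc : N ≤ centralizer (L : Set G) := by
    intro x hx
    refine mem_centralizer_iff.mpr fun y hy => ?_
    have h1 : y * x * y⁻¹ * x⁻¹ ∈ N := mul_mem ((MonoidHom.normal_ker perm).conj_mem x hx y) (inv_mem hx)
    have h2 : y * x * y⁻¹ * x⁻¹ ∈ L := by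
      rw [show y * x * y⁻¹ * x⁻¹ = y * (x * y⁻¹ * x⁻¹) by group]
      exact mul_mem hy (‹L.Normal›.conj_mem _ (inv_mem hy) x)
    have h3 : (⟨_, h1⟩ : N) ∈ L.subgroupOf N := h2
    rw [hNL, mem_bot] at h3
    have h4 : y * x * y⁻¹ * x⁻¹ = 1 := congrArg Subtype.val h3
    rw [mul_inv_eq_one, mul_inv_eq_iff_eq_mul] at h4
    exact h4
  -- the normal subgroup of order three
  let P3 : Sylow 3 N := default
  have hP3 : Nat.card (P3 : Subgroup N) = 3 := by
    obtain ⟨m, hm⟩ := hN3
    have hm3 : ¬ 3 ∣ m := fun h => by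
      have : 3 * 3 ∣ Nat.card N := hm ▸ Nat.mul_dvd_mul_left 3 h
      have := this.trans hN6
      norm_num at this
    simpa using H30.card_sylow_subgroup (a := 1) P3 (by rw [hm, pow_one]) hm3
  have hn3 : Nat.card (Sylow 3 N) = 1 := by
    have hd : Nat.card (Sylow 3 N) ∣ 6 :=
      (P3.card_dvd_index.trans (index_dvd_card _)).trans hN6
    have hmod : Nat.card (Sylow 3 N) % 3 = 1 := card_sylow_modEq_one 3 N
    have hle := Nat.le_of_dvd (by norm_num) hd
    generalize Nat.card (Sylow 3 N) = j at *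
    interval_cases j <;> omega
  have : Subsingleton (Sylow 3 N) := (Nat.card_eq_one_iff_unique.mp hn3).1
  have hP3n : (P3 : Subgroup N).Normal := P3.normal_of_subsingleton
  have : (P3 : Subgroup N).Characteristic := P3.characteristic_of_normal hP3n
  set C := (P3 : Subgroup N).map N.subtype with hCdef
  have hCn : C.Normal := ConjAct.normal_of_characteristic_of_normal
  have hC3 : Nat.card C = 3 := by rw [hCdef, card_subtype, hP3]
  have hCN : C ≤ N := map_subtype_le _
  have hcomm : ∀ (l : L) (c : C), Commute (l : G) (c : G) := fun l c =>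
    mem_centralizer_iff.mp (hNc (hCN c.2)) l l.2
  -- the subgroup `L C`
  set f : L × C →* G := MonoidHom.noncommCoprod L.subtype C.subtype hcomm with hf
  have hfinj : Function.Injective f := by
    rw [injective_iff_map_eq_one]
    rintro ⟨l, c⟩ h
    have h' : (l : G) * (c : G) = 1 := h
    have hcl : (c : G) ∈ L := by
      rw [eq_inv_of_mul_eq_one_right h']; exact inv_mem l.2
    have h3 : (⟨(c : G), hCN c.2⟩ : N) ∈ L.subgroupOf N := hcl
    rw [hNL, mem_bot] at h3
    have hc1 : (c : G) = 1 := congrArg Subtype.val h3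
    rw [hc1, mul_one] at h'
    exact Prod.ext (Subtype.ext h') (Subtype.ext hc1)
  set H := f.range with hH
  let e : L × C ≃* H := MonoidHom.ofInjective hfinj
  have hH180 : Nat.card H = 180 := by
    rw [← Nat.card_congr e.toEquiv, Nat.card_prod, hL60, hC3]
  have hH2 : H.index = 2 := by
    have := H.index_mul_card
    rw [hH180, hcard] at this
    omega
  have : H.Normal := normal_of_index_eq_two hH2
  have := Fintype.ofFinite H
  let π₁ : H →* L := (MonoidHom.fst L C).comp e.symm.toMonoidHom
  let π₂ : H →* C := (MonoidHom.snd L C).comp e.symm.toMonoidHom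
  have hπ : ∀ h : H, (h : G) = (π₁ h : G) * (π₂ h : G) := fun h =>
    (congrArg Subtype.val (e.apply_symm_apply h)).symm
  have he : ∀ (l : L) (c : C), ((e (l, c) : H) : G) = (l : G) * (c : G) := fun l c => rfl
  have hπ₁ : Function.Surjective π₁ := fun l => ⟨e (l, 1), by
    show (e.symm (e (l, 1))).1 = l
    rw [e.symm_apply_apply]⟩
  obtain ⟨huniq, h3deg⟩ := sixty_characters hL60
  -- some element inverts `C`
  have hinv : ∃ (x : G) (c : C), x * (c : G) * x⁻¹ ≠ (c : G) := by
    by_contra hcen
    push Not at hcen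
    obtain ⟨φ, hφ⟩ := H44.RelGraph.exists_constituent (N := H) χ
    obtain ⟨hdvd', hidx'⟩ := S0887.result H χ.1 χ.2 φ.1 φ.2 hφ (Cfsg.charDegree (χ : G → ℂ))
      (Cfsg.charDegree (φ : H → ℂ)) (H44.cast_charDegree χ).symm (H44.cast_charDegree φ).symm
    rw [hH2] at hidx'
    have h5φ : 5 ∣ Cfsg.charDegree (φ : H → ℂ) := by
      refine (Nat.Coprime.dvd_of_dvd_mul_left (by norm_num : Nat.Coprime 5 2) ?_)
      refine ((by norm_num : 5 ∣ 10).trans hχ10).trans ?_
      rw [← Nat.div_mul_cancel hdvd']
      exact Nat.mul_dvd_mul_right hidx' _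
    set Z := π₁.ker with hZ
    have hZc : ∀ z ∈ Z, ∀ g : H, z * g = g * z := by
      intro z hz g
      refine Subtype.ext ?_
      show (z : G) * (g : G) = (g : G) * (z : G)
      rw [hπ z, MonoidHom.mem_ker.mp hz, OneMemClass.coe_one, one_mul]
      exact (mul_inv_eq_iff_eq_mul.mp (hcen (g : G) (π₂ z))).symm
    have hφ5 : Cfsg.charDegree (φ : H → ℂ) = 5 := by
      have := H26.PF.degree_sq_le_index φ Z (fun z hz g => by
        rw [hZc z hz g, mul_inv_cancel_right, mul_inv_cancel]
        exact one_mem _) (H44.cast_charDegree φ).symm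
      have hZi : Z.index = 60 := by
        rw [hZ, index_ker, MonoidHom.range_eq_top.mpr hπ₁, card_top, hL60]
      rw [hZi] at this
      have hpos : 0 < Cfsg.charDegree (φ : H → ℂ) := H43.irr_charDegree_pos φ
      obtain ⟨j, hj⟩ := h5φ
      rw [hj] at this hpos ⊢
      have : j < 2 := by nlinarith
      omega
    -- restriction to the copy of `L`
    set L' := π₂.ker with hL'
    have := Fintype.ofFinite L'
    have hL'i : L'.index = 3 := by
      rw [hL', index_ker, MonoidHom.range_eq_top.mpr (fun c => ⟨e (1, c), by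
        show (e.symm (e (1, c))).2 = c
        rw [e.symm_apply_apply]⟩), card_top, hC3]
    obtain ⟨θ', hθ'⟩ := H43.exists_irr_restrict L' φ
      (by rw [hL'i, hφ5]; norm_num)
    let ι : L ≃* L' :=
      { toFun := fun l => ⟨e (l, 1), MonoidHom.mem_ker.mpr (by
          show (e.symm (e (l, 1))).2 = 1
          rw [e.symm_apply_apply])⟩
        invFun := fun h => π₁ h
        left_inv := fun l => by
          show (e.symm (e (l, 1))).1 = l
          rw [e.symm_apply_apply]
        right_inv := fun h => Subtype.ext (Subtype.ext (by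
          show (e (π₁ (h : H), 1) : G) = ((h : H) : G)
          rw [he, hπ (h : H), MonoidHom.mem_ker.mp h.2]))
        map_mul' := fun a b => Subtype.ext (by
          show e (a * b, 1) = e (a, 1) * e (b, 1)
          rw [← map_mul, Prod.mk_mul_mk, mul_one]) }
    let θL : Cfsg.IrrCharacter L := ⟨_, H56.isIrrCharacter_comp_equiv θ'.2 ι⟩
    have hθL : ∀ l : L, θL.1 l = φ.1 (e (l, 1)) := fun l => (hθ' (ι l)).symm
    have hθL5 : Cfsg.charDegree (θL : L → ℂ) = 5 := by
      rw [← hφ5]
      simp only [Cfsg.charDegree, hθL]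
      rw [show e (1, 1) = 1 from map_one e]
    -- central elements act by scalars
    obtain ⟨n, ρ, hρ, hρe⟩ := φ.2
    have := hρ
    have hscal : ∀ h : H, φ.1 h =
        (LinearMap.trace ℂ _ (ρ (e (1, π₂ h))) / (Module.finrank ℂ (Fin n → ℂ) : ℂ)) *
          θL.1 (π₁ h) := by
      intro h
      have hz : ∀ g : H, ρ (e (1, π₂ h)) ∘ₗ ρ g = ρ g ∘ₗ ρ (e (1, π₂ h)) := fun g => by
        rw [← Module.End.mul_eq_comp, ← Module.End.mul_eq_comp, ← map_mul, ← map_mul,
          hZc _ (MonoidHom.mem_ker.mpr (by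
            show (e.symm (e (1, π₂ h))).1 = 1
            rw [e.symm_apply_apply])) g]
      have hsc := H25.eq_smul_id_of_comm ρ _ hz
      rw [hθL, ← hρe]
      have hsplit : h = e (π₁ h, 1) * e (1, π₂ h) := by
        apply e.symm.injective
        rw [map_mul, e.symm_apply_apply, e.symm_apply_apply, Prod.mk_mul_mk, mul_one, one_mul]
        rfl
      conv_lhs => rw [hsplit]
      simp only [Representation.character, map_mul]
      rw [hsc, mul_smul_comm, map_smul, smul_eq_mul, ← Module.End.one_eq_id, mul_one,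
        LinearMap.map_smul, LinearMap.trace_one, smul_eq_mul, div_mul_cancel₀ _ (by
          have := H26.finrank_pos_of_isIrreducible ρ
          exact_mod_cast this.ne')]
    have hinv' : ∀ g : G, H56.twist H φ.1 g = φ.1 := by
      intro g
      funext h
      set h' : H := ⟨g * h * g⁻¹, ‹H.Normal›.conj_mem h h.2 g⟩
      show φ.1 h' = φ.1 h
      have hsplit : h' = e (MulAut.conjNormal g (π₁ h), π₂ h) := by
        refine Subtype.ext ?_
        rw [he, MulAut.conjNormal_apply]
        show g * (h : G) * g⁻¹ = _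
        rw [hπ h]
        calc g * ((π₁ h : G) * (π₂ h : G)) * g⁻¹
            = g * (π₁ h : G) * g⁻¹ * (g * (π₂ h : G) * g⁻¹) := by group
          _ = _ := by rw [hcen g (π₂ h)]
      have h1 : π₁ h' = MulAut.conjNormal g (π₁ h) := by
        show (e.symm h').1 = _
        rw [hsplit, e.symm_apply_apply]
      have h2 : π₂ h' = π₂ h := by
        show (e.symm h').2 = _
        rw [hsplit, e.symm_apply_apply]
      rw [hscal h', hscal h, h1, h2]
      congr 1
      let θg : Cfsg.IrrCharacter L := ⟨_, H56.isIrrCharacter_comp_equiv θL.2 (MulAut.conjNormal g)⟩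
      have hg5 : Cfsg.charDegree (θg : L → ℂ) = 5 := by
        rw [← hθL5]; simp [θg, Cfsg.charDegree]
      exact congrFun (congrArg Subtype.val (huniq θg θL hg5 hθL5)) (π₁ h)
    obtain ⟨k, hk0, hkres, -, hk1⟩ := H56.restrict_eq_smul_of_invariant H φ.2 hinv' χ.2 hφ
    rw [← H44.cast_charDegree χ, ← H44.cast_charDegree φ, hφ5] at hk1
    have hkd : Cfsg.charDegree (χ : G → ℂ) = k * 5 := by exact_mod_cast hk1
    have hk2 : 2 ≤ k := by
      rw [hkd] at hχ10
      omega
    have hnG : ∑ g : G, ‖χ.1 g‖ ^ 2 = (360 : ℝ) := by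
      have h := H26.classInner_irr χ χ
      rw [if_pos rfl, Cfsg.classInner, hcard] at h
      have h2 : ∑ g : G, χ.1 g * conj (χ.1 g) = (360 : ℂ) := by
        rw [inv_mul_eq_one₀ (by norm_num)] at h
        rw [← h]; norm_num
      have h3 := congrArg Complex.re h2
      simpa [Complex.mul_conj, Complex.normSq_eq_norm_sq, Complex.re_sum, ← Complex.ofReal_pow] using h3
    have hnH : ∑ g : H, ‖χ.1 (g : G)‖ ^ 2 = (k : ℝ) ^ 2 * 180 := by
      have h := H26.classInner_irr φ φ
      rw [if_pos rfl, Cfsg.classInner, hH180] at h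
      have h2 : ∑ g : H, φ.1 g * conj (φ.1 g) = (180 : ℂ) := by
        rw [inv_mul_eq_one₀ (by norm_num)] at h
        rw [← h]; norm_num
      have h3 := congrArg Complex.re h2
      have h4 : ∀ g : H, ‖χ.1 (g : G)‖ ^ 2 = (k : ℝ) ^ 2 * ‖φ.1 g‖ ^ 2 := fun g => by
        rw [show χ.1 (g : G) = (k : ℂ) * φ.1 g from congrFun hkres g, norm_mul, mul_pow,
          Complex.norm_natCast]
      rw [Finset.sum_congr rfl fun g _ => h4 g, ← Finset.mul_sum]
      congr 1
      simpa [Complex.mul_conj, Complex.normSq_eq_norm_sq, Complex.re_sum, ← Complex.ofReal_pow] using h3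
    have hle : ∑ g : H, ‖χ.1 (g : G)‖ ^ 2 ≤ ∑ g : G, ‖χ.1 g‖ ^ 2 := by
      refine le_of_eq_of_le (Finset.sum_map Finset.univ ⟨Subtype.val, Subtype.val_injective⟩
        (fun g : G => ‖χ.1 g‖ ^ 2)).symm ?_
      exact Finset.sum_le_univ_sum_of_nonneg fun g => sq_nonneg _
    rw [hnH, hnG] at hle
    have : (4 : ℝ) ≤ (k : ℝ) ^ 2 := by
      have : (2 : ℝ) ≤ (k : ℝ) := by exact_mod_cast hk2
      nlinarith
    linarith
  -- the character of degree three times a faithful character of `C`
  obtain ⟨x, c, hxc⟩ := hinv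
  have hCcyc : IsCyclic C := isCyclic_of_prime_card hC3
  let _ : CommGroup C := IsCyclic.commGroup
  have hc1 : c ≠ 1 := fun h => hxc (by rw [h]; simp)
  obtain ⟨lam, hlam⟩ := CommGroup.exists_apply_ne_one_of_hasEnoughRootsOfUnity C ℂ hc1
  obtain ⟨θ₃, hθ₃⟩ := h3deg
  let η : Cfsg.IrrCharacter H :=
    ⟨_, H56.isIrrCharacter_hom_mul (H44.isIrrCharacter_comp_surjective π₁ hπ₁ θ₃.2) (lam.comp π₂)⟩
  have hη3 : Cfsg.charDegree (η : H → ℂ) = 3 := by
    rw [← hθ₃]; simp [η, Cfsg.charDegree]
  obtain ⟨χ', hχ'⟩ := H44.exists_irr_over H η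
  have hd := H44.degree_mul_index_inertia_dvd H χ' η hχ'
  rw [hη3] at hd
  have hI : (H44.inertia H η.1).index = 2 := by
    have hle : H ≤ H44.inertia H η.1 := H44.le_inertia H (H26.isClassFunction_of_isCharacter (H26.irr_isCharacter η))
    have hd2 : (H44.inertia H η.1).index ∣ 2 := hH2 ▸ index_dvd_of_le hle
    refine ((Nat.dvd_prime Nat.prime_two).mp hd2).resolve_left fun h1 => hxc ?_
    have hx : x ∈ H44.inertia H η.1 := (index_eq_one.mp h1) ▸ mem_top x
    rw [H44.mem_inertia] at hx
    have hv := congrFun hx (e (1, c))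
    set c' : C := ⟨x * (c : G) * x⁻¹, hCn.conj_mem _ c.2 x⟩
    have hconj : (⟨x * ((e (1, c) : H) : G) * x⁻¹, ‹H.Normal›.conj_mem _ (e (1, c)).2 x⟩ : H) = e (1, c') := by
      refine Subtype.ext ?_
      simp only [he, OneMemClass.coe_one, one_mul, c']
    have hv' : η.1 (e (1, c')) = η.1 (e (1, c)) := hconj ▸ hv
    have hval : ∀ a : C, η.1 (e (1, a)) = (lam a : ℂ) * θ₃.1 1 := fun a => by
      show ((lam ((e.symm (e (1, a))).2) : ℂˣ) : ℂ) * θ₃.1 ((e.symm (e (1, a))).1) = _
      rw [e.symm_apply_apply]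
    rw [hval, hval] at hv'
    have hlam' : lam c' = lam c := by
      apply Units.ext
      exact mul_right_cancel₀ (H26.irr_one_ne_zero θ₃) hv'
    -- a conjugate of `c` is `c` or `c⁻¹`
    have h3pow : ∀ a : C, a ^ 3 = 1 := fun a => by
      rw [← hC3]; exact pow_card_eq_one'
    have hc'mem : c' ∈ zpowers c := by
      have : zpowers c = ⊤ := eq_top_of_card_eq _ (by
        rw [Nat.card_zpowers, hC3, orderOf_eq_prime (h3pow c) hc1])
      rw [this]; exact mem_top _
    obtain ⟨i, hi⟩ := mem_zpowers_iff.mp hc'mem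
    have hmod : ((i - 1) : ℤ) % 3 = 0 := by
      have h1 : lam (c ^ (i - 1)) = 1 := by
        rw [zpow_sub, zpow_one, hi, map_mul, map_inv, hlam', mul_inv_cancel]
      rw [map_zpow, ← orderOf_dvd_iff_zpow_eq_one,
        orderOf_eq_prime (by rw [← map_pow, h3pow, map_one]) hlam] at h1
      exact Int.emod_eq_zero_of_dvd h1
    have hceq : c' = c := by
      have hd : (orderOf c : ℤ) ∣ i - 1 := by
        rw [orderOf_eq_prime (h3pow c) hc1]; exact Int.dvd_of_emod_eq_zero hmod
      have := orderOf_dvd_iff_zpow_eq_one.mp hd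
      rwa [zpow_sub, zpow_one, hi, mul_inv_eq_one] at this
    exact congrArg Subtype.val hceq
  rw [hI] at hd
  exact h6 _ ⟨χ', rfl⟩ hd

end Cfsg.Agent.H28.DegreeGraph
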