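import Cfsg.Agent.H28.DegreeGraph.EdgeCases
import Cfsg.Agent.H28.DegreeGraph.ThreeSixty
import Cfsg.Agent.H28.SmallOrders.L33.Unique

/-!
# The groups of order below 6000 determined by order and degree graph
-/

set_option autoImplicit false
set_option synthInstance.maxSize 1024

namespace Cfsg.Agent.H28.DegreeGraph

open Subgroup

variable {S : Type*} [Group S] [Finite S] [IsSimpleGroup S]
variable {G : Type*} [Group G] [Finite G]

/-- A group whose only possible section has the full order is simple. -/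
theorem simple_of_sections {n : ℕ} (hcard : Nat.card G = n) (hn : n ≤ 6232)
    (hns : ¬ Group.IsSolvable G)
    (h : ∀ (L : Subgroup G) (M : Subgroup L), L.Normal → ∀ [M.Normal], commutator L = ⊤ →
      IsSimpleGroup (L ⧸ M) → ¬ IsMulCommutative (L ⧸ M) → ∀ s ∈ simpleOrders,
        Nat.card (L ⧸ M) = s → s ∣ n → s ≠ n → False) : IsSimpleGroup G := by
  obtain ⟨L, M, hLn, hMn, hL, hs, hc⟩ := exists_section hns
  have hd : Nat.card (L ⧸ M) ∣ n :=
    hcard ▸ ((index_eq_card M ▸ index_dvd_card M).trans L.card_subgroup_dvd_card)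
  have hn0 : 0 < n := hcard ▸ Nat.card_pos
  have hmem := Mid.orders_le hc ((Nat.le_of_dvd hn0 hd).trans hn)
  have heq : Nat.card (L ⧸ M) = n := by
    by_contra hne
    exact h L M hLn hL hs hc _ hmem rfl hd hne
  have hLM : Nat.card L = Nat.card M * n := by rw [← heq, ← index_eq_card, M.card_mul_index]
  have hle := Nat.le_of_dvd hn0 (hcard ▸ L.card_subgroup_dvd_card)
  have hM1 : Nat.card M = 1 := by
    have : 0 < Nat.card M := Nat.card_pos
    rw [hLM] at hle
    nlinarith
  have hLtop : L = ⊤ := eq_top_of_card_eq L (by rw [hLM, hM1, one_mul, hcard])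
  have e₁ : (L ⧸ M) ≃* L :=
    (QuotientGroup.quotientMulEquivOfEq (card_eq_one.mp hM1)).trans QuotientGroup.quotientBot
  have e₂ : L ≃* G := (MulEquiv.subgroupCongr hLtop).trans Subgroup.topEquiv
  exact (e₁.trans e₂).symm.isSimpleGroup

/-- Joined primes of one graph are joined in the other. -/
theorem edge_transfer {A B : Type*} [Group A] [Group B]
    (hΓ : Cfsg.degreeGraph A = Cfsg.degreeGraph B) {p q n d : ℕ} (hp : p.Prime)
    (hq : q.Prime) (hpq : p ≠ q) (hn : n = p * q) (hd : d ∈ Cfsg.charDegrees B) (h : n ∣ d) :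
    ∃ d ∈ Cfsg.charDegrees A, n ∣ d := by
  subst hn
  have hadj : (Cfsg.degreeGraph A).Adj p q := hΓ ▸ ⟨hpq, hp, hq, d, hd, h⟩
  exact hadj.2.2.2

theorem edge_transfer' (hΓ : Cfsg.degreeGraph G = Cfsg.degreeGraph S) {p q n d : ℕ} (hp : p.Prime)
    (hq : q.Prime) (hpq : p ≠ q) (hn : n = p * q) (hd : d ∈ Cfsg.charDegrees G) (h : n ∣ d) :
    ∃ d ∈ Cfsg.charDegrees S, n ∣ d :=
  edge_transfer hΓ.symm hp hq hpq hn hd h

/-- A vertex excludes solvable groups when no prime power is bad. -/
theorem not_solvable_of_vertex {n r m : ℕ} [hr : Fact r.Prime] (hcard : Nat.card G = n)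
    (hn : n = r * m) (hm : ¬ r ∣ m)
    (hgood : ∀ q i : ℕ, q.Prime → 0 < i → q ^ i ∣ n → q ^ i % r ≠ 1)
    (hv : r ∈ Cfsg.degreePrimes G) : ¬ Group.IsSolvable G := by
  intro hs
  have hcard' : Nat.card G = r * m := hcard.trans hn
  refine not_mem_of_normal_sylow hcard' hm default ?_ hv
  exact normal_sylow_of_no_bad n G hcard
    (fun h => hm (Nat.dvd_of_mul_dvd_mul_left hr.out.pos (hn ▸ h))) hgood default

/-- Two vertices exclude solvable groups with one bad prime power. -/
theorem not_solvable_of_vertices {n r m q a : ℕ} [hr : Fact r.Prime] [hq : Fact q.Prime]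
    (hcard : Nat.card G = n) (hn : n = r * m) (hm : ¬ r ∣ m) (hqr : q ≠ r) (ha : 0 < a)
    (hqa : ¬ q ^ (a + 1) ∣ m)
    (hbad : ∀ p i : ℕ, p.Prime → 0 < i → p ^ i ∣ n → p ^ i % r = 1 → p = q ∧ i = a)
    (hv : r ∈ Cfsg.degreePrimes G) (hv' : q ∈ Cfsg.degreePrimes G) : ¬ Group.IsSolvable G :=
  fun _ => solvable_vertices hqr ha (hcard.trans hn) hm hqa (fun p i hp hi hd => hbad p i hp hi (hn ▸ hd))
    default hv hv'

theorem simple_sixty (hcard : Nat.card G = 60) (hv : 5 ∈ Cfsg.degreePrimes G) : IsSimpleGroup G := by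
  have : Fact (Nat.Prime 5) := ⟨by norm_num⟩
  refine simple_of_sections hcard (by norm_num) (not_solvable_of_vertex hcard (m := 12) (by norm_num)
    (by norm_num) (good_small (by norm_num) (by decide) (by norm_num) (by decide)) hv)
    fun L M _ _ _ _ _ s hs _ hd hne => ?_
  fin_cases hs <;> first | omega | skip

theorem simple_168 (hcard : Nat.card G = 168) (hv : 7 ∈ Cfsg.degreePrimes G)
    (hv' : 2 ∈ Cfsg.degreePrimes G) : IsSimpleGroup G := by
  have : Fact (Nat.Prime 7) := ⟨by norm_num⟩
  have : Fact (Nat.Prime 2) := ⟨Nat.prime_two⟩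
  refine simple_of_sections hcard (by norm_num) (not_solvable_of_vertices (a := 3) hcard (m := 24)
    (by norm_num) (by norm_num) (by norm_num) (by norm_num) (by norm_num)
    (bad_of_list _ prime_list (by norm_num) (by decide) (by norm_num) (by decide)) hv hv')
    fun L M _ _ _ _ _ s hs _ hd hne => ?_
  fin_cases hs <;> first | omega | skip

theorem simple_360 (hcard : Nat.card G = 360) (hv : 5 ∈ Cfsg.degreePrimes G)
    (h6 : ∀ d ∈ Cfsg.charDegrees G, ¬ 6 ∣ d) (h10 : ∃ d ∈ Cfsg.charDegrees G, 10 ∣ d) :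
    IsSimpleGroup G := by
  have : Fact (Nat.Prime 5) := ⟨by norm_num⟩
  refine simple_of_sections hcard (by norm_num) (not_solvable_of_vertex hcard (m := 72) (by norm_num)
    (by norm_num) (good_small (by norm_num) (by decide) (by norm_num) (by decide)) hv)
    fun L M hLn _ hL hsimp _ s hs hcs hd hne => ?_
  fin_cases hs <;> first | omega | skip
  exact false_of_three_sixty hcard L hL M hcs h6 h10

theorem simple_504 (hcard : Nat.card G = 504) (hv : 7 ∈ Cfsg.degreePrimes G)
    (hv' : 2 ∈ Cfsg.degreePrimes G) (h6 : ∀ d ∈ Cfsg.charDegrees G, ¬ 6 ∣ d) : IsSimpleGroup G := by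
  have : Fact (Nat.Prime 7) := ⟨by norm_num⟩
  have : Fact (Nat.Prime 2) := ⟨Nat.prime_two⟩
  refine simple_of_sections hcard (by norm_num) (not_solvable_of_vertices (a := 3) hcard (m := 72)
    (by norm_num) (by norm_num) (by norm_num) (by norm_num) (by norm_num)
    (bad_of_list _ prime_list (by norm_num) (by decide) (by norm_num) (by decide)) hv hv')
    fun L M hLn _ hL hsimp _ s hs hcs hd hne => ?_
  fin_cases hs <;> first | omega | skip
  obtain ⟨t, ht, h6t⟩ := (degree_168 hcs).2.2
  obtain ⟨d, hdG, htd⟩ := lift_dvd L M ht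
  exact h6 d hdG (h6t.trans htd)

theorem simple_660 (hcard : Nat.card G = 660) (hv : 11 ∈ Cfsg.degreePrimes G) :
    IsSimpleGroup G := by
  have : Fact (Nat.Prime 11) := ⟨by norm_num⟩
  refine simple_of_sections hcard (by norm_num) (not_solvable_of_vertex hcard (m := 60) (by norm_num)
    (by norm_num) (good_small (by norm_num) (by decide) (by norm_num) (by decide)) hv)
    fun L M hLn _ hL hsimp hna s hs hcs hd hne => ?_
  fin_cases hs <;> first | omega | skip
  exact not_mem_of_section_good (m := 60) (k := 11) (by rw [hcard]) (by norm_num) L hL M hna hcs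
    (by norm_num) (by norm_num) (by norm_num) (by norm_num) (by decide)
    (good_small (by norm_num) (by decide) (by norm_num) (by decide))
    (good_small (by norm_num) (by decide) (by norm_num) (by decide)) hv

theorem simple_1092 (hcard : Nat.card G = 1092) (hv : 13 ∈ Cfsg.degreePrimes G) :
    IsSimpleGroup G := by
  have : Fact (Nat.Prime 13) := ⟨by norm_num⟩
  refine simple_of_sections hcard (by norm_num) (not_solvable_of_vertex hcard (m := 84) (by norm_num)
    (by norm_num) (good_small (by norm_num) (by decide) (by norm_num) (by decide)) hv)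
    fun L M _ _ _ _ _ s hs _ hd hne => ?_
  fin_cases hs <;> first | omega | skip

theorem simple_2448 (hcard : Nat.card G = 2448) (hv : 17 ∈ Cfsg.degreePrimes G) :
    IsSimpleGroup G := by
  have : Fact (Nat.Prime 17) := ⟨by norm_num⟩
  refine simple_of_sections hcard (by norm_num) (not_solvable_of_vertex hcard (m := 144) (by norm_num)
    (by norm_num) (good_small (by norm_num) (by decide) (by norm_num) (by decide)) hv)
    fun L M _ _ _ _ _ s hs _ hd hne => ?_
  fin_cases hs <;> first | omega | skip

theorem simple_2520 (hcard : Nat.card G = 2520) {d : ℕ} (hd14 : d ∈ Cfsg.charDegrees G)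
    (h14 : 14 ∣ d) : IsSimpleGroup G := by
  have : Fact (Nat.Prime 7) := ⟨by norm_num⟩
  have : Fact (Nat.Prime 2) := ⟨Nat.prime_two⟩
  have h7 : 7 ∈ Cfsg.degreePrimes G :=
    vertex_of_mem (by norm_num) hd14 ((by norm_num : 7 ∣ 14).trans h14)
  refine simple_of_sections hcard (by norm_num) (not_solvable_of_vertices (a := 3) hcard (m := 360)
    (by norm_num) (by norm_num) (by norm_num) (by norm_num) (by norm_num)
    (bad_of_list _ prime_list (by norm_num) (by decide) (by norm_num) (by decide)) h7
    (vertex_of_mem Nat.prime_two hd14 ((by norm_num : 2 ∣ 14).trans h14)))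
    fun L M hLn _ hL hsimp hna s hs hcs hd hne => ?_
  fin_cases hs <;> first | omega | skip
  · exact seven_not_mem hcard L hL M hna (Or.inl hcs) h7
  · exact no_fourteen hcard L hL M (Or.inl hcs) hd14 h14
  · exact seven_not_mem hcard L hL M hna (Or.inr hcs) h7
  · exact no_fourteen hcard L hL M (Or.inr hcs) hd14 h14

theorem simple_3420 (hcard : Nat.card G = 3420) (hv : 19 ∈ Cfsg.degreePrimes G) :
    IsSimpleGroup G := by
  have : Fact (Nat.Prime 19) := ⟨by norm_num⟩
  refine simple_of_sections hcard (by norm_num) (not_solvable_of_vertex hcard (m := 180) (by norm_num)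
    (by norm_num) (good_small (by norm_num) (by decide) (by norm_num) (by decide)) hv)
    fun L M hLn _ hL hsimp hna s hs hcs hd hne => ?_
  fin_cases hs <;> first | omega | skip
  exact not_mem_of_section_good (m := 180) (k := 57) (by rw [hcard]) (by norm_num) L hL M hna hcs
    (by norm_num) (by norm_num) (by norm_num) (by norm_num) (by decide)
    (good_small (by norm_num) (by decide) (by norm_num) (by decide))
    (good_small (by norm_num) (by decide) (by norm_num) (by decide)) hv

theorem simple_4080 (hcard : Nat.card G = 4080) (hv : 17 ∈ Cfsg.degreePrimes G) :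
    IsSimpleGroup G := by
  have : Fact (Nat.Prime 17) := ⟨by norm_num⟩
  refine simple_of_sections hcard (by norm_num) (not_solvable_of_vertex hcard (m := 240) (by norm_num)
    (by norm_num) (good_small (by norm_num) (by decide) (by norm_num) (by decide)) hv)
    fun L M hLn _ hL hsimp hna s hs hcs hd hne => ?_
  fin_cases hs <;> first | omega | skip
  exact not_mem_of_section_good (m := 240) (k := 68) (by rw [hcard]) (by norm_num) L hL M hna hcs
    (by norm_num) (by norm_num) (by norm_num) (by norm_num) (by decide)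
    (good_small (by norm_num) (by decide) (by norm_num) (by decide))
    (good_small (by norm_num) (by decide) (by norm_num) (by decide)) hv

theorem simple_5616 (hcard : Nat.card G = 5616) (hv : 13 ∈ Cfsg.degreePrimes G)
    (hv' : 3 ∈ Cfsg.degreePrimes G) : IsSimpleGroup G := by
  have : Fact (Nat.Prime 13) := ⟨by norm_num⟩
  have : Fact (Nat.Prime 3) := ⟨Nat.prime_three⟩
  refine simple_of_sections hcard (by norm_num) (not_solvable_of_vertices (a := 3) hcard (m := 432)
    (by norm_num) (by norm_num) (by norm_num) (by norm_num) (by norm_num)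
    (bad_of_list _ prime_list (by norm_num) (by decide) (by norm_num) (by decide)) hv hv')
    fun L M _ _ _ _ _ s hs _ hd hne => ?_
  fin_cases hs <;> first | omega | skip

/-- The main theorem. -/
theorem nonempty_mulEquiv_of_graph (hS : ¬ IsMulCommutative S) (hlt : Nat.card S < 6000)
    (hcard : Nat.card G = Nat.card S) (hP : Cfsg.degreePrimes G = Cfsg.degreePrimes S)
    (hΓ : Cfsg.degreeGraph G = Cfsg.degreeGraph S) : Nonempty (G ≃* S) := by
  have hmem := Mid.orders_le hS (hlt.le.trans (by norm_num))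
  simp only [Finset.mem_insert, Finset.mem_singleton] at hmem
  rcases hmem with h | h | h | h | h | h | h | h | h | h | h | h | h <;> rw [h] at hcard hlt
  · have := simple_sixty hcard (hP ▸ degree_sixty h)
    obtain ⟨a⟩ := S0494.result hcard
    obtain ⟨b⟩ := S0494.result h
    exact ⟨a.trans b.symm⟩
  · obtain ⟨h7, h2, -⟩ := degree_168 h
    have := simple_168 hcard (hP ▸ h7) (hP ▸ h2)
    have : Fact (Nat.Prime 7) := ⟨by norm_num⟩
    obtain ⟨a⟩ := S0495.result hcard (F := ZMod 7) (ZMod.card 7)
    obtain ⟨b⟩ := S0495.result h (F := ZMod 7) (ZMod.card 7)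
    exact ⟨a.trans b.symm⟩
  · obtain ⟨h6, d, hd, h10⟩ := degree_360 h
    have h5 : 5 ∈ Cfsg.degreePrimes S :=
      vertex_of_mem (by norm_num) hd ((by norm_num : 5 ∣ 10).trans h10)
    have := simple_360 hcard (hP ▸ h5)
      (fun d hd h6d => by
        obtain ⟨d', hd', h'⟩ := edge_transfer' hΓ Nat.prime_two Nat.prime_three (by norm_num)
          (n := 6) rfl hd h6d
        exact h6 d' hd' h')
      (edge_transfer hΓ Nat.prime_two (q := 5) (by norm_num) (by norm_num) (n := 10) rfl hd h10)
    obtain ⟨a⟩ := S0497.result hcard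
    obtain ⟨b⟩ := S0497.result h
    exact ⟨a.trans b.symm⟩
  · obtain ⟨h7, h2, hall⟩ := degree_504 h
    have := simple_504 hcard (hP ▸ h7) (hP ▸ h2) (fun d hd h6d => by
      obtain ⟨d', hd', h'⟩ := edge_transfer' hΓ Nat.prime_two Nat.prime_three (by norm_num)
        (n := 6) rfl hd h6d
      exact (hall d' hd').1 h')
    have := Fintype.ofFinite (GaloisField 2 3)
    have hF : Fintype.card (GaloisField 2 3) = 8 := by
      rw [← Nat.card_eq_fintype_card, GaloisField.card 2 3 (by norm_num)]; norm_num
    obtain ⟨a⟩ := S1011.result hcard hF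
    obtain ⟨b⟩ := S1011.result h hF
    exact ⟨a.trans b.symm⟩
  · have := simple_660 hcard (hP ▸ degree_660 h)
    have : Fact (Nat.Prime 11) := ⟨by norm_num⟩
    obtain ⟨a⟩ := S0498.result (G := G) 11 (Or.inl rfl) (by rw [hcard]; norm_num) (ZMod.card 11)
    obtain ⟨b⟩ := S0498.result (G := S) 11 (Or.inl rfl) (by rw [h]; norm_num) (ZMod.card 11)
    exact ⟨a.trans b.symm⟩
  · have := simple_1092 hcard (hP ▸ degree_1092 h)
    have : Fact (Nat.Prime 13) := ⟨by norm_num⟩
    obtain ⟨a⟩ := S0498.result (G := G) 13 (Or.inr rfl) (by rw [hcard]; norm_num) (ZMod.card 13)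
    obtain ⟨b⟩ := S0498.result (G := S) 13 (Or.inr rfl) (by rw [h]; norm_num) (ZMod.card 13)
    exact ⟨a.trans b.symm⟩
  · have := simple_2448 hcard (hP ▸ degree_2448 h)
    have : Fact (Nat.Prime 17) := ⟨by norm_num⟩
    obtain ⟨a⟩ := S1020.result hcard (F := ZMod 17) (ZMod.card 17)
    obtain ⟨b⟩ := S1020.result h (F := ZMod 17) (ZMod.card 17)
    exact ⟨a.trans b.symm⟩
  · obtain ⟨d, hd, h14⟩ := degree_2520 h
    obtain ⟨d', hd', h14'⟩ := edge_transfer hΓ Nat.prime_two (q := 7) (by norm_num) (by norm_num)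
      (n := 14) rfl hd h14
    have := simple_2520 hcard hd' h14'
    obtain ⟨a⟩ := S0984.result hcard
    obtain ⟨b⟩ := S0984.result h
    exact ⟨a.trans b.symm⟩
  · have := simple_3420 hcard (hP ▸ degree_3420 h)
    have : Fact (Nat.Prime 19) := ⟨by norm_num⟩
    obtain ⟨a⟩ := S1021.result hcard (F := ZMod 19) (ZMod.card 19)
    obtain ⟨b⟩ := S1021.result h (F := ZMod 19) (ZMod.card 19)
    exact ⟨a.trans b.symm⟩
  · have := simple_4080 hcard (hP ▸ degree_4080 h)
    have := Fintype.ofFinite (GaloisField 2 4)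
    have hF : Fintype.card (GaloisField 2 4) = 16 := by
      rw [← Nat.card_eq_fintype_card, GaloisField.card 2 4 (by norm_num)]; norm_num
    obtain ⟨a⟩ := S0981.result hcard hF
    obtain ⟨b⟩ := S0981.result h hF
    exact ⟨a.trans b.symm⟩
  · obtain ⟨h13, h3⟩ := degree_5616 hS h
    have := simple_5616 hcard (hP ▸ h13) (hP ▸ h3)
    exact L33.nonempty_mulEquiv hcard h
  · norm_num at hlt
  · norm_num at hlt

end Cfsg.Agent.H28.DegreeGraph
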