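import Cfsg.Agent.H28.DegreeGraph.SolvableCase
import Cfsg.Agent.H25.Burnside
import Cfsg.Agent.H20.SchurZassenhaus
import Cfsg.Agent.H44.PrimeDegreesSolvable
import Cfsg.Agent.H28.SmallOrders.Mid.Main

/-!
# Perfect normal subgroups of the groups of small order
-/

set_option autoImplicit false
set_option synthInstance.maxSize 1024

namespace Cfsg.Agent.H28.DegreeGraph

open Subgroup

/-- A perfect group has no non-trivial map to a solvable group. -/
theorem hom_eq_one {L S : Type*} [Group L] [Group S] [Group.IsSolvable S] (hL : commutator L = ⊤)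
    (f : L →* S) (x : L) : f x = 1 := by
  have hr : ⁅f.range, f.range⁆ = f.range := by
    rw [MonoidHom.range_eq_map, ← map_commutator, ← commutator_def, hL]
  obtain ⟨n, hn⟩ := (Group.isSolvable_def S).mp inferInstance
  have hle : ∀ k, f.range ≤ derivedSeries S k := by
    intro k
    induction k with
    | zero => simp
    | succ k ih =>
      rw [derivedSeries_succ, ← hr]
      exact commutator_mono ih ih
  have := hle n ⟨x, rfl⟩
  rwa [hn, mem_bot] at this

/-- Small subgroups of perfect groups: index at most four means everything. -/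
theorem eq_top_of_index_le_four {L : Type*} [Group L] [Finite L] (hL : commutator L = ⊤)
    (H : Subgroup L) (hH : H.index ≤ 4) : H = ⊤ := by
  have hcard : Nat.card (Equiv.Perm (L ⧸ H)) = H.index.factorial := by
    rw [Nat.card_perm, ← index_eq_card]
  have : Group.IsSolvable (Equiv.Perm (L ⧸ H)) := by
    have h0 : H.index ≠ 0 := index_ne_zero_of_finite
    rcases (show H.index = 1 ∨ H.index = 2 ∨ H.index = 3 ∨ H.index = 4 by omega) with h | h | h | h <;>
      rw [h] at hcard
    · exact H25.isSolvable_of_card_eq_mul_pow (a := 0) (b := 0) Nat.prime_two Nat.prime_three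
        (by rw [hcard]; rfl)
    · exact H25.isSolvable_of_card_eq_mul_pow (a := 1) (b := 0) Nat.prime_two Nat.prime_three
        (by rw [hcard]; rfl)
    · exact H25.isSolvable_of_card_eq_mul_pow (a := 1) (b := 1) Nat.prime_two Nat.prime_three
        (by rw [hcard]; rfl)
    · exact H25.isSolvable_of_card_eq_mul_pow (a := 3) (b := 1) Nat.prime_two Nat.prime_three
        (by rw [hcard]; rfl)
  refine eq_top_iff.mpr fun x _ => ?_
  have h1 := Equiv.Perm.ext_iff.mp (hom_eq_one hL (MulAction.toPermHom L (L ⧸ H)) x)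
    ((1 : L) : L ⧸ H)
  have h2 : ((x * 1 : L) : L ⧸ H) = ((1 : L) : L ⧸ H) := h1
  rw [QuotientGroup.eq, mul_one, mul_one] at h2
  exact inv_mem_iff.mp h2

/-- A normal cyclic subgroup of a perfect group is central. -/
theorem central_of_cyclic {L : Type*} [Group L] [Finite L] (hL : commutator L = ⊤) (N : Subgroup L)
    [N.Normal] [IsCyclic N] : N ≤ center L := by
  intro x hx
  have : IsMulCommutative (MulAut N) :=
    ⟨⟨fun a b => by
      apply (IsCyclic.mulAutMulEquiv N).injective
      rw [map_mul, map_mul, mul_comm]⟩⟩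
  let inst : CommGroup (MulAut N) :=
    { (inferInstance : Group (MulAut N)) with mul_comm := this.is_comm.comm }
  have : Group.IsSolvable (MulAut N) := Group.isSolvable_of_comm fun a b => this.is_comm.comm a b
  refine mem_center_iff.mpr fun g => ?_
  have h := congrArg Subtype.val (MulEquiv.ext_iff.mp (hom_eq_one hL MulAut.conjNormal g) ⟨x, hx⟩)
  rw [MulAut.conjNormal_apply] at h
  exact mul_inv_eq_iff_eq_mul.mp h

/-- A perfect group has no central element in an abelian Sylow subgroup (transfer). -/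
theorem eq_one_of_central {L : Type*} [Group L] [Finite L] (hL : commutator L = ⊤) {p : ℕ}
    [hp : Fact p.Prime] (Q : Sylow p L) (hQ : IsMulCommutative (Q : Subgroup L)) {d : L}
    (hd : d ∈ (Q : Subgroup L)) (hc : d ∈ center L) : d = 1 := by
  haveI := hQ
  open scoped IsMulCommutative in
  obtain ⟨f, hf⟩ : ∃ f : L →* (Q : Subgroup L), (f d : L) = d ^ (Q : Subgroup L).index := by
    refine ⟨MonoidHom.transfer (MonoidHom.id (Q : Subgroup L)), ?_⟩
    have key : ∀ (k : ℕ) (g₀ : L), g₀⁻¹ * d ^ k * g₀ ∈ (Q : Subgroup L) →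
        g₀⁻¹ * d ^ k * g₀ = d ^ k := by
      intro k g₀ _
      rw [mul_assoc, ← mem_center_iff.mp (pow_mem hc k) g₀, inv_mul_cancel_left]
    rw [MonoidHom.transfer_eq_pow _ d key]
    rfl
  let inst : CommGroup (Q : Subgroup L) :=
    { (inferInstance : Group (Q : Subgroup L)) with mul_comm := hQ.is_comm.comm }
  have : Group.IsSolvable (Q : Subgroup L) := Group.isSolvable_of_comm fun a b => hQ.is_comm.comm a b
  rw [hom_eq_one hL f d, OneMemClass.coe_one] at hf
  obtain ⟨k, hk⟩ := IsPGroup.iff_orderOf.1 Q.2 ⟨d, hd⟩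
  rw [orderOf_mk] at hk
  by_contra hne
  have hdd : orderOf d ∣ (Q : Subgroup L).index := orderOf_dvd_of_pow_eq_one hf.symm
  have hk0 : k ≠ 0 := fun h0 => hne (orderOf_eq_one_iff.1 (by simpa [h0] using hk))
  exact Q.not_dvd_index ((dvd_pow_self p hk0).trans (hk ▸ hdd))

/-- A normal subgroup of a perfect group has no normal Sylow `p`-subgroup of prime order when the
Sylow `p`-subgroups of the whole group are abelian. -/
theorem not_dvd_card_normal {L : Type*} [Group L] [Finite L] (hL : commutator L = ⊤) (M : Subgroup L)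
    [M.Normal] {p : ℕ} [hp : Fact p.Prime] (h2 : ¬ p * p ∣ Nat.card M)
    (hp3 : ¬ p ^ 3 ∣ Nat.card L) (hone : ∀ d, d ∣ Nat.card M → d % p = 1 → d = 1) :
    ¬ p ∣ Nat.card M := by
  intro hd
  obtain ⟨m, hm⟩ := hd
  have hpm : ¬ p ∣ m := fun h => h2 (by rw [hm]; exact Nat.mul_dvd_mul_left p h)
  let P : Sylow p M := default
  have hP : Nat.card (P : Subgroup M) = p := by
    simpa using H30.card_sylow_subgroup (a := 1) P (by rw [hm, pow_one]) hpm
  have hn1 : Nat.card (Sylow p M) = 1 := by
    refine hone _ (P.card_dvd_index.trans (index_dvd_card _)) ?_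
    have := card_sylow_modEq_one p M
    rwa [Nat.ModEq, Nat.mod_eq_of_lt hp.out.one_lt] at this
  have : Subsingleton (Sylow p M) := (Nat.card_eq_one_iff_unique.mp hn1).1
  have hPn : (P : Subgroup M).Normal := P.normal_of_subsingleton
  have : (P : Subgroup M).Characteristic := P.characteristic_of_normal hPn
  set N := (P : Subgroup M).map M.subtype
  have : N.Normal := ConjAct.normal_of_characteristic_of_normal
  have hN : Nat.card N = p := by rw [card_subtype, hP]
  have : IsCyclic N := isCyclic_of_prime_card hN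
  have hcen := central_of_cyclic hL N
  obtain ⟨d, hd⟩ := exists_prime_orderOf_dvd_card' (G := N) p (by rw [hN])
  obtain ⟨Q, hQ⟩ := ((IsPGroup.of_card (n := 1) (by rw [hN, pow_one])) : IsPGroup p N).exists_le_sylow
  have hQab : IsMulCommutative (Q : Subgroup L) := by
    obtain ⟨i, hi⟩ := IsPGroup.iff_card.mp Q.2
    have hi2 : i ≤ 2 := by
      by_contra h
      exact hp3 ((pow_dvd_pow p (by omega : 3 ≤ i)).trans (hi ▸ card_subgroup_dvd_card _))
    interval_cases i
    · have := (Nat.card_eq_one_iff_unique.mp (hi.trans (pow_zero p))).1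
      exact ⟨⟨fun a b => Subsingleton.elim _ _⟩⟩
    · have : IsCyclic (Q : Subgroup L) := isCyclic_of_prime_card (by rw [hi, pow_one])
      exact IsCyclic.isMulCommutative
    · exact IsPGroup.isMulCommutative_of_card_eq_prime_sq hi
  have h1 := eq_one_of_central hL Q hQab (hQ d.2) (hcen d.2)
  rw [← orderOf_coe, h1, orderOf_one] at hd
  exact hp.out.one_lt.ne hd

/-- A nonsolvable group has a perfect normal subgroup with a non-abelian simple quotient. -/
theorem exists_section {G : Type*} [Group G] [Finite G] (hG : ¬ Group.IsSolvable G) :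
    ∃ (L : Subgroup G) (M : Subgroup L) (_ : L.Normal) (_ : M.Normal), commutator L = ⊤ ∧
      IsSimpleGroup (L ⧸ M) ∧ ¬ IsMulCommutative (L ⧸ M) := by
  classical
  obtain ⟨n, hn⟩ := H44.PrimeDeg.exists_derived_stable (G := G)
  have hbot : derivedSeries G n ≠ ⊥ := fun h => hG ((Group.isSolvable_def G).mpr ⟨n, h⟩)
  set L := derivedSeries G n with hL
  have hLn : L.Normal := derivedSeries_normal G n
  have hperf : ⁅L, L⁆ = L := by rw [hL, ← derivedSeries_succ]; exact hn
  have htop : commutator L = ⊤ := by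
    refine map_injective L.subtype_injective ?_
    rw [map_subtype_commutator, hperf, ← MonoidHom.range_eq_map, range_subtype]
  have : Nontrivial L := (nontrivial_iff_ne_bot L).mpr hbot
  obtain ⟨M, hM, hmax⟩ := (Set.toFinite {M : Subgroup L | M.Normal ∧ M ≠ ⊤}).exists_maximal
    ⟨⊥, inferInstance, bot_ne_top⟩
  obtain ⟨hMn, hMne⟩ := hM
  have : Nontrivial (L ⧸ M) := by
    rw [← Finite.one_lt_card_iff_nontrivial]
    exact one_lt_index_of_ne_top hMne
  refine ⟨L, M, hLn, hMn, htop, ⟨fun H hH => ?_⟩, fun hc => hMne (eq_top_iff.mpr ?_)⟩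
  · set K := H.comap (QuotientGroup.mk' M) with hK
    have hMK : M ≤ K := fun m hm => by
      rw [hK, mem_comap, QuotientGroup.mk'_apply, (QuotientGroup.eq_one_iff m).mpr hm]
      exact H.one_mem
    have hHK : H = K.map (QuotientGroup.mk' M) :=
      (map_comap_eq_self_of_surjective (QuotientGroup.mk'_surjective M) H).symm
    by_cases hKtop : K = ⊤
    · exact Or.inr (by rw [hHK, hKtop, ← MonoidHom.range_eq_map,
        MonoidHom.range_eq_top.mpr (QuotientGroup.mk'_surjective M)])
    · refine Or.inl ?_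
      have hKM : K ≤ M := hmax ⟨inferInstance, hKtop⟩ hMK
      rw [hHK, Subgroup.map_eq_bot_iff, QuotientGroup.ker_mk']
      exact hKM
  · rw [← htop, commutator_def, commutator_le]
    intro a _ b _
    rw [← QuotientGroup.eq_one_iff, commutatorElement_def]
    simp only [QuotientGroup.mk_mul, QuotientGroup.mk_inv]
    rw [hc.is_comm.comm (a : L ⧸ M) b, mul_inv_cancel_right, mul_inv_cancel]

/-- The orders of the non-abelian simple groups of order at most 6232. -/
abbrev simpleOrders : Finset ℕ :=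
  {60, 168, 360, 504, 660, 1092, 2448, 2520, 3420, 4080, 5616, 6048, 6072}

/-- Groups of small order without a possible simple section are solvable. -/
theorem isSolvable_of_card_dvd {X : Type*} [Group X] [Finite X] {k : ℕ} (hk0 : 0 < k)
    (hk : k ≤ 6232) (hd : Nat.card X ∣ k) (hno : ∀ s ∈ simpleOrders, ¬ s ∣ k) :
    Group.IsSolvable X := by
  by_contra hX
  obtain ⟨L, M, hLn, hMn, -, hs, hc⟩ := exists_section hX
  have hdd : Nat.card (L ⧸ M) ∣ k :=
    (index_eq_card M ▸ index_dvd_card M).trans ((card_subgroup_dvd_card L).trans hd)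
  exact hno _ (Mid.orders_le hc ((Nat.le_of_dvd hk0 hdd).trans hk)) hdd

/-- A good prime part of a normal subgroup is centralised by the Sylow `r`-subgroup. -/
theorem good_part {G : Type*} [Group G] [Finite G] (L : Subgroup G) [L.Normal] {r : ℕ}
    [hr : Fact r.Prime] (R : Sylow r G) (hR : Nat.card (R : Subgroup G) = r)
    (hrL : ¬ r ∣ Nat.card L) {p e : ℕ} [hp : Fact p.Prime] (hpe : p ^ e ∣ Nat.card L)
    (hgood : ∀ i, 0 < i → p ^ i ∣ Nat.card L → p ^ i % r ≠ 1) :
    p ^ e ∣ Nat.card ↥((centralizer ((R : Subgroup G) : Set G)).subgroupOf L) := by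
  classical
  rcases Nat.eq_zero_or_pos e with rfl | he
  · exact one_dvd _
  have hpr : p ≠ r := fun h => hrL (h ▸ ((dvd_pow_self p he.ne').trans hpe))
  -- a Sylow `p`-subgroup of `L` fixed by `R`
  let φ : (R : Subgroup G) →* MulAut L := MulAut.conjNormal.comp (R : Subgroup G).subtype
  let _ : MulDistribMulAction (R : Subgroup G) L := MulDistribMulAction.compHom L φ
  obtain ⟨P, hP⟩ := R.2.nonempty_fixed_point_of_prime_not_dvd_card (Sylow p L) (fun h =>
    hrL (h.trans ((default : Sylow p L).card_dvd_index.trans (index_dvd_card _))))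
  set P' := (P : Subgroup L).map L.subtype with hP'
  have hRP : (R : Subgroup G) ≤ normalizer (P' : Set G) := by
    intro x hx
    have hfix : (⟨x, hx⟩ : (R : Subgroup G)) • P = P := hP ⟨x, hx⟩
    have key : ∀ w : L, w ∈ (P : Subgroup L) → φ ⟨x, hx⟩ w ∈ (P : Subgroup L) := by
      intro w hw
      rw [← hfix]
      exact ⟨w, hw, rfl⟩
    have key' : ∀ w : L, w ∈ (P : Subgroup L) → φ ⟨x, hx⟩⁻¹ w ∈ (P : Subgroup L) := by
      intro w hw
      rw [← show (⟨x, hx⟩ : (R : Subgroup G))⁻¹ • P = P from hP (⟨x, hx⟩⁻¹)]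
      exact ⟨w, hw, rfl⟩
    refine mem_normalizer_iff.mpr fun g => ⟨?_, ?_⟩
    · rintro ⟨w, hw, rfl⟩
      exact ⟨_, key w hw, MulAut.conjNormal_apply _ _⟩
    · rintro ⟨w, hw, hwe⟩
      refine ⟨_, key' w hw, ?_⟩
      change ((MulAut.conjNormal x⁻¹ w : L) : G) = g
      rw [MulAut.conjNormal_apply, inv_inv]
      have hwe' : (w : G) = x * g * x⁻¹ := hwe
      rw [hwe']
      group
  set J := (R : Subgroup G) ⊔ P' with hJ
  obtain ⟨j, hj⟩ := IsPGroup.iff_card.mp P.2
  have hje : e ≤ j := by
    by_contra h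
    refine P.not_dvd_index (Nat.dvd_of_mul_dvd_mul_left (pow_pos hp.out.pos j) ?_)
    rw [← pow_succ, ← hj, (P : Subgroup L).card_mul_index]
    exact (pow_dvd_pow p (by omega)).trans hpe
  have hP'c : Nat.card P' = p ^ j := by rw [hP', card_subtype, hj]
  have hcop : (Nat.card (R : Subgroup G)).Coprime (Nat.card P') := by
    rw [hR, hP'c]; exact ((Nat.coprime_primes hr.out hp.out).mpr hpr.symm).pow_right j
  have hdisj : Disjoint (R : Subgroup G) P' := disjoint_iff.mpr (card_eq_one.mp
    (Nat.eq_one_of_dvd_coprimes hcop (card_dvd_of_le inf_le_left) (card_dvd_of_le inf_le_right)))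
  have hJc : Nat.card J = r * p ^ j := by
    rw [hJ, sup_comm, H20.card_sup_of_coprime hRP hcop, hP'c, hR, mul_comm]
  have : Group.IsSolvable J :=
    H25.isSolvable_of_card_eq_mul_pow (a := 1) (b := j) hr.out hp.out (by rw [hJc, pow_one])
  have hpjL : p ^ j ∣ Nat.card L := hj ▸ card_subgroup_dvd_card _
  have hrpj : ¬ r * r ∣ r * p ^ j := fun h =>
    hpr ((Nat.prime_dvd_prime_iff_eq hr.out hp.out).mp
      (hr.out.dvd_of_dvd_pow (Nat.dvd_of_mul_dvd_mul_left hr.out.pos h))).symm
  have hn := normal_sylow_of_no_bad (r * p ^ j) J hJc hrpj (fun q i hq hi hd => by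
      by_cases hqr : q = r
      · subst hqr
        rw [Nat.mod_eq_zero_of_dvd (dvd_pow_self q hi.ne')]
        exact zero_ne_one
      · have hd' : q ^ i ∣ p ^ j :=
          (((Nat.coprime_primes hq hr.out).mpr hqr).pow_left i).dvd_of_dvd_mul_left hd
        have hqp : q = p := (Nat.prime_dvd_prime_iff_eq hq hp.out).mp
          (hq.dvd_of_dvd_pow ((dvd_pow_self q hi.ne').trans hd'))
        subst hqp
        exact hgood i hi (hd'.trans hpjL))
    (R.subtype le_sup_left)
  rw [Sylow.coe_subtype] at hn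
  -- both factors are normal in `J`, so they commute
  have hle : J ≤ normalizer ((R : Subgroup G) : Set G) :=
    (normal_subgroupOf_iff_le_normalizer le_sup_left).mp hn
  have hcomm : P' ≤ centralizer ((R : Subgroup G) : Set G) := by
    intro y hy
    refine mem_centralizer_iff.mpr fun x hx => ?_
    have h1 : x * y * x⁻¹ * y⁻¹ ∈ (R : Subgroup G) := by
      rw [show x * y * x⁻¹ * y⁻¹ = x * (y * x⁻¹ * y⁻¹) by group]
      exact mul_mem hx ((mem_normalizer_iff.mp (hle (mem_sup_right hy)) x⁻¹).mp (inv_mem hx))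
    have h2 : x * y * x⁻¹ * y⁻¹ ∈ P' :=
      mul_mem ((mem_normalizer_iff.mp (hRP hx) y).mp hy) (inv_mem hy)
    have h3 : x * y * x⁻¹ * y⁻¹ ∈ (R : Subgroup G) ⊓ P' := mem_inf.mpr ⟨h1, h2⟩
    rw [disjoint_iff.mp hdisj, mem_bot, mul_inv_eq_one, mul_inv_eq_iff_eq_mul] at h3
    exact h3
  refine (pow_dvd_pow p hje).trans ?_
  rw [← hj]
  exact card_dvd_of_le fun w hw => hcomm ⟨w, hw, rfl⟩

end Cfsg.Agent.H28.DegreeGraph
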