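import Cfsg.Agent.H28.DegreeGraph.Perfect

/-!
# Nonsolvable non-simple groups: a large prime outside the section is not a vertex
-/

set_option autoImplicit false
set_option synthInstance.maxSize 1024

namespace Cfsg.Agent.H28.DegreeGraph

open Subgroup

variable {G : Type*} [Group G] [Finite G]

/-- If all prime parts are good the whole normal perfect subgroup is centralised. -/
theorem centralizes_of_good (L : Subgroup G) [L.Normal] {r : ℕ} [Fact r.Prime] (R : Sylow r G)
    (hR : Nat.card (R : Subgroup G) = r) (hrL : ¬ r ∣ Nat.card L)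
    (hgood : ∀ p i : ℕ, p.Prime → 0 < i → p ^ i ∣ Nat.card L → p ^ i % r ≠ 1) :
    L ≤ centralizer ((R : Subgroup G) : Set G) := by
  rw [← subgroupOf_eq_top]
  refine eq_top_of_le_card _ (Nat.le_of_dvd Nat.card_pos ((Nat.dvd_iff_prime_pow_dvd_dvd _ _).mpr
    fun p e hp hd => ?_))
  have := Fact.mk hp
  exact good_part L R hR hrL hd fun i hi hid => hgood p i hp hi hid

/-- A subgroup of order 15 or 45 in a perfect group of order 120 or 360 does not have index 8. -/
theorem index_ne_eight {L : Type*} [Group L] [Finite L] (hL : commutator L = ⊤)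
    (hcard : Nat.card L = 120 ∨ Nat.card L = 360) (C : Subgroup L) : C.index ≠ 8 := by
  intro h8
  have : Fact (Nat.Prime 5) := ⟨by norm_num⟩
  have hC : Nat.card C = 15 ∧ Nat.card L = 120 ∨ Nat.card C = 45 ∧ Nat.card L = 360 := by
    have := C.index_mul_card
    rw [h8] at this
    omega
  obtain ⟨m, hm, hm5⟩ : ∃ m, Nat.card C = 5 * m ∧ (m = 3 ∨ m = 9) := by
    rcases hC with ⟨h, -⟩ | ⟨h, -⟩
    · exact ⟨3, by omega, Or.inl rfl⟩
    · exact ⟨9, by omega, Or.inr rfl⟩
  let P : Sylow 5 C := default
  have hP : Nat.card (P : Subgroup C) = 5 := by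
    simpa using H30.card_sylow_subgroup (a := 1) P (by rw [hm, pow_one]) (by omega)
  have hn1 : Nat.card (Sylow 5 C) = 1 := by
    have hd := H30.card_sylow_dvd (G := C) (p := 5) (a := 1) (by rw [hm, pow_one]) (by omega)
    have hmod : Nat.card (Sylow 5 C) % 5 = 1 := card_sylow_modEq_one 5 C
    have hpos : 0 < Nat.card (Sylow 5 C) := Nat.card_pos
    have hle := Nat.le_of_dvd (by omega) hd
    rcases hm5 with rfl | rfl <;> (generalize Nat.card (Sylow 5 C) = d at *; interval_cases d <;> omega)
  have : Subsingleton (Sylow 5 C) := (Nat.card_eq_one_iff_unique.mp hn1).1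
  have hPn : (P : Subgroup C).Normal := P.normal_of_subsingleton
  set P' := (P : Subgroup C).map C.subtype with hP'
  have hP'5 : Nat.card P' = 5 := by rw [hP', card_subtype, hP]
  have hCN : C ≤ normalizer (P' : Set L) := by
    refine (normal_subgroupOf_iff_le_normalizer (map_subtype_le _)).mp ?_
    rw [subgroupOf, comap_map_eq_self_of_injective C.subtype_injective]
    exact hPn
  obtain ⟨Q, hQ⟩ := (IsPGroup.of_card (n := 1) (by rw [hP'5, pow_one]) : IsPGroup 5 P').exists_le_sylow
  have hQ5 : Nat.card (Q : Subgroup L) = 5 := by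
    rcases hcard with h | h
    · simpa using H30.card_sylow_subgroup (a := 1) (m := 24) Q (by rw [h]; norm_num) (by norm_num)
    · simpa using H30.card_sylow_subgroup (a := 1) (m := 72) Q (by rw [h]; norm_num) (by norm_num)
  have hQP : (Q : Subgroup L) = P' := (eq_of_le_of_card_ge hQ (by rw [hP'5, hQ5])).symm
  have hidx := Q.card_eq_index_normalizer
  have hmul := (normalizer ((Q : Subgroup L) : Set L)).index_mul_card
  have hd : Nat.card C ∣ Nat.card (normalizer ((Q : Subgroup L) : Set L)) := by
    rw [hQP]; exact card_dvd_of_le hCN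
  rw [show (normalizer ((Q : Subgroup L) : Set L)).index = Nat.card (Sylow 5 L) from hidx.symm] at hmul
  have hmod : Nat.card (Sylow 5 L) % 5 = 1 := card_sylow_modEq_one 5 L
  by_cases h1 : Nat.card (Sylow 5 L) = 1
  · have : Subsingleton (Sylow 5 L) := (Nat.card_eq_one_iff_unique.mp h1).1
    have : (Q : Subgroup L).Normal := Q.normal_of_subsingleton
    have : IsCyclic (Q : Subgroup L) := isCyclic_of_prime_card hQ5
    obtain ⟨d, hd'⟩ := exists_prime_orderOf_dvd_card' (G := (Q : Subgroup L)) 5 (by rw [hQ5])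
    have hone := eq_one_of_central hL Q IsCyclic.isMulCommutative d.2
      (central_of_cyclic hL (Q : Subgroup L) d.2)
    rw [← orderOf_coe, hone, orderOf_one] at hd'
    omega
  · obtain ⟨j, hj⟩ := hd
    rw [hj] at hmul
    have hj0 : j ≠ 0 := by
      rintro rfl
      rw [mul_zero, mul_zero] at hmul
      exact Nat.card_pos.ne hmul
    have hnj : Nat.card (Sylow 5 L) * j = 8 := by
      rcases hC with ⟨hc, hl⟩ | ⟨hc, hl⟩ <;> rw [hc, hl] at hmul <;> nlinarith
    have hle : Nat.card (Sylow 5 L) ≤ 8 := Nat.le_of_dvd (by norm_num) ⟨j, hnj.symm⟩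
    have hdd : Nat.card (Sylow 5 L) ∣ 8 := ⟨j, hnj.symm⟩
    generalize Nat.card (Sylow 5 L) = d at *
    interval_cases d <;> omega

/-- The Sylow 7-subgroup centralises perfect normal subgroups of order 120 and 360. -/
theorem centralizes_seven (L : Subgroup G) [L.Normal] (hL : commutator L = ⊤)
    (hcard : Nat.card L = 120 ∨ Nat.card L = 360) [Fact (Nat.Prime 7)] (R : Sylow 7 G)
    (hR : Nat.card (R : Subgroup G) = 7) : L ≤ centralizer ((R : Subgroup G) : Set G) := by
  have : Fact (Nat.Prime 3) := ⟨Nat.prime_three⟩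
  have : Fact (Nat.Prime 5) := ⟨by norm_num⟩
  rw [← subgroupOf_eq_top]
  set C := (centralizer ((R : Subgroup G) : Set G)).subgroupOf L with hC
  have h7 : ¬ 7 ∣ Nat.card L := by rcases hcard with h | h <;> rw [h] <;> norm_num
  have hsmall : ∀ p ∈ ([3, 5] : List ℕ), ∀ i, 0 < i → p ^ i ∣ Nat.card L → p ^ i % 7 ≠ 1 := by
    intro p hp i hi hd
    have h360 : p ^ i ∣ 360 := hd.trans (by rcases hcard with h | h <;> rw [h] <;> norm_num)
    have hi3 : i < 3 := by
      by_contra h
      have := (pow_dvd_pow p (by omega : 3 ≤ i)).trans h360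
      fin_cases hp <;> norm_num at this
    fin_cases hp <;> interval_cases i <;> norm_num
  refine eq_top_of_index_le_four hL C ?_
  by_contra hbig
  refine index_ne_eight hL hcard C ?_
  have h5 : 5 ∣ Nat.card C := by
    rw [hC]; simpa using good_part L R hR h7 (p := 5) (e := 1)
      (by rcases hcard with h | h <;> rw [h] <;> norm_num) (hsmall 5 (by simp))
  have hmul := C.index_mul_card
  rcases hcard with h | h
  · have h3 : 3 ∣ Nat.card C := by
      rw [hC]; simpa using good_part L R hR h7 (p := 3) (e := 1) (by rw [h]; norm_num) (hsmall 3 (by simp))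
    obtain ⟨j, hj⟩ := Nat.Coprime.mul_dvd_of_dvd_of_dvd (by norm_num : Nat.Coprime 3 5) h3 h5
    rw [hj, h] at hmul
    have hij : C.index * j = 8 := by nlinarith
    have hle : C.index ≤ 8 := Nat.le_of_dvd (by norm_num) ⟨j, hij.symm⟩
    generalize C.index = d at *
    interval_cases d <;> omega
  · have h9 : 9 ∣ Nat.card C := by
      rw [hC]; simpa using good_part L R hR h7 (p := 3) (e := 2) (by rw [h]; norm_num) (hsmall 3 (by simp))
    obtain ⟨j, hj⟩ := Nat.Coprime.mul_dvd_of_dvd_of_dvd (by norm_num : Nat.Coprime 9 5) h9 h5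
    rw [hj, h] at hmul
    have hij : C.index * j = 8 := by nlinarith
    have hle : C.index ≤ 8 := Nat.le_of_dvd (by norm_num) ⟨j, hij.symm⟩
    generalize C.index = d at *
    interval_cases d <;> omega

/-- `r` is not a vertex when it lies outside the simple section of `G`. -/
theorem not_mem_of_section {r m k s : ℕ} [hr : Fact r.Prime] (hcard : Nat.card G = r * m)
    (hm : ¬ r ∣ m) (L : Subgroup G) [L.Normal] (hL : commutator L = ⊤) (M : Subgroup L) [M.Normal]
    [IsSimpleGroup (L ⧸ M)] (hna : ¬ IsMulCommutative (L ⧸ M)) (hs : Nat.card (L ⧸ M) = s)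
    (hk : r * m = s * k) (hk0 : 0 < k) (hk6 : k ≤ 6232) (hrs : ¬ r ∣ s)
    (hno : ∀ t ∈ simpleOrders, ¬ t ∣ k)
    (hkbad : ∀ d ∈ k.divisors, IsPrimePow d → d % r ≠ 1)
    (hLgood : ∀ R : Sylow r G, ¬ r ∣ Nat.card L → L ≤ centralizer ((R : Subgroup G) : Set G)) :
    r ∉ Cfsg.degreePrimes G := by
  classical
  let R : Sylow r G := default
  have hR : Nat.card (R : Subgroup G) = r := by
    simpa using H30.card_sylow_subgroup (a := 1) R (by rw [hcard, pow_one]) hm
  have hrr : ¬ r * r ∣ r * m := fun h => hm (Nat.dvd_of_mul_dvd_mul_left hr.out.pos h)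
  refine not_mem_of_normal_sylow hcard hm R ?_
  have hLM : Nat.card L = Nat.card M * s := by
    rw [← hs, ← index_eq_card, M.card_mul_index]
  have hMk : Nat.card M ∣ k := by
    have h := L.card_subgroup_dvd_card
    rw [hcard, hk, hLM, mul_comm] at h
    exact Nat.dvd_of_mul_dvd_mul_left (hs ▸ Nat.card_pos) h
  have hnbad : ∀ (X : Type _) [Group X] [Finite X], Nat.card X ∣ k →
      ∀ S : Sylow r X, (S : Subgroup X).Normal := by
    intro X _ _ hX S
    have := isSolvable_of_card_dvd hk0 hk6 hX hno
    refine normal_sylow_of_no_bad _ X rfl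
      (fun h => hrr ((h.trans hX).trans ⟨s, by rw [hk, mul_comm]⟩)) (fun q i hq hi hd => ?_) S
    exact hkbad _ (Nat.mem_divisors.mpr ⟨hd.trans hX, hk0.ne'⟩)
      ((hq.prime.isPrimePow).pow hi.ne')
  by_cases hrL : r ∣ Nat.card L
  · -- the Sylow subgroups lie in `M`
    have hrM : r ∣ Nat.card M := by
      rw [hLM] at hrL
      exact ((Nat.Prime.dvd_mul hr.out).mp hrL).resolve_right hrs
    let S : Sylow r M := default
    have hSn := hnbad M hMk S
    have : (S : Subgroup M).Characteristic := S.characteristic_of_normal hSn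
    have hS : (S : Subgroup M) ≠ ⊥ := S.ne_bot_of_dvd_card hrM
    set N₁ := (S : Subgroup M).map M.subtype
    have hN₁ : N₁.Normal := ConjAct.normal_of_characteristic_of_normal
    have hN₁p : IsPGroup r N₁ := S.2.map _
    obtain ⟨T, hT⟩ := hN₁p.exists_le_sylow
    have hN1c : Nat.card N₁ = r := by
      have hd : Nat.card (S : Subgroup M) ∣ r := by
        obtain ⟨i, hi⟩ := IsPGroup.iff_card.mp S.2
        rw [hi]
        rcases Nat.lt_or_ge i 2 with h | h
        · exact (pow_dvd_pow r (by omega : i ≤ 1)).trans (by rw [pow_one])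
        · exact absurd (((pow_dvd_pow r h).trans (hi ▸ card_subgroup_dvd_card _)).trans
            (hMk.trans ⟨s, rfl⟩)) (by rw [sq, mul_comm k, ← hk]; exact hrr)
      rw [card_subtype]
      exact ((Nat.dvd_prime hr.out).mp hd).resolve_left fun h => hS (card_eq_one.mp h)
    have hchar : N₁.Characteristic := by
      have hTe : N₁ = (T : Subgroup L) := eq_of_le_of_card_ge hT (by
        obtain ⟨i, hi⟩ := IsPGroup.iff_card.mp T.2
        have hi2 : i < 2 := by
          by_contra h
          refine hrr (?_ : r * r ∣ r * m)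
          rw [← sq, ← hcard]
          exact ((pow_dvd_pow r (by omega : 2 ≤ i)).trans (hi ▸ card_subgroup_dvd_card _)).trans
            L.card_subgroup_dvd_card
        rw [hN1c, hi]
        calc r ^ i ≤ r ^ 1 := Nat.pow_le_pow_right hr.out.pos (by omega)
          _ = r := pow_one r)
      rw [hTe] at hN₁ ⊢
      exact T.characteristic_of_normal hN₁
    set N₂ := N₁.map L.subtype
    have hN₂ : N₂.Normal := ConjAct.normal_of_characteristic_of_normal
    have hN₂c : Nat.card N₂ = r := by rw [card_subtype, hN1c]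
    have hN₂R : N₂ = (R : Subgroup G) := by
      obtain ⟨T, hT⟩ :=
        (IsPGroup.of_card (n := 1) (by rw [hN₂c, pow_one]) : IsPGroup r N₂).exists_le_sylow
      obtain ⟨g, hg⟩ := MulAction.exists_smul_eq G T R
      refine eq_of_le_of_card_ge (fun x hx => ?_) (by rw [hN₂c, hR])
      rw [← hg]
      exact ⟨g⁻¹ * x * g, hT (by simpa using hN₂.conj_mem x hx g⁻¹),
        show g * (g⁻¹ * x * g) * g⁻¹ = x by group⟩
    exact hN₂R ▸ hN₂
  · -- the Sylow subgroup centralises `L`
    have hLC := hLgood R hrL
    set Cg := centralizer (L : Set G) with hCg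
    have hCn : Cg.Normal := inferInstance
    have hRC : (R : Subgroup G) ≤ Cg := le_centralizer_iff.mp hLC
    have hcen : Cg.subgroupOf L ≤ M := by
      intro x hx
      by_contra hxM
      have hxc : x ∈ center L := mem_center_iff.mpr fun g => Subtype.ext
        (mem_centralizer_iff.mp hx g g.2)
      have hxq : (x : L ⧸ M) ∈ center (L ⧸ M) := mem_center_iff.mpr fun g => by
        induction g using QuotientGroup.induction_on with
        | H g => rw [← QuotientGroup.mk_mul, ← QuotientGroup.mk_mul, mem_center_iff.mp hxc g]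
      rcases IsSimpleGroup.eq_bot_or_eq_top_of_normal (center (L ⧸ M)) inferInstance with h | h
      · rw [h, mem_bot, QuotientGroup.eq_one_iff] at hxq
        exact hxM hxq
      · exact hna ⟨⟨fun a b => mem_center_iff.mp (h ▸ mem_top b : b ∈ center (L ⧸ M)) a⟩⟩
    have hCk : Nat.card Cg ∣ k := by
      have h1 : Nat.card ↥(L.subgroupOf Cg) ∣ Nat.card M := by
        rw [← card_subtype L M]
        have e : Nat.card ↥(L.subgroupOf Cg) = Nat.card ↥((Cg.subgroupOf L).map L.subtype) := by
          rw [← card_subtype Cg (L.subgroupOf Cg), subgroupOf_map_subtype, subgroupOf_map_subtype,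
            inf_comm]
        rw [e]
        exact card_dvd_of_le (map_mono hcen)
      have h2 : (L.subgroupOf Cg).index ∣ L.index := relIndex_dvd_index_of_normal L Cg
      have h3 : Nat.card M * L.index = k := by
        have h := L.card_mul_index
        rw [hcard, hk, hLM] at h
        have hs0 : 0 < s := hs ▸ Nat.card_pos
        exact Nat.eq_of_mul_eq_mul_left hs0 (by linarith)
      rw [← (L.subgroupOf Cg).card_mul_index, ← h3]
      exact Nat.mul_dvd_mul h1 h2
    have hn := hnbad Cg hCk (R.subtype hRC)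
    have := (R.subtype hRC).characteristic_of_normal hn
    have h := ConjAct.normal_of_characteristic_of_normal (H := Cg) (K := ((R.subtype hRC : Sylow r Cg) : Subgroup Cg))
    rwa [Sylow.coe_subtype, subgroupOf_map_subtype, inf_of_le_left hRC] at h

end Cfsg.Agent.H28.DegreeGraph
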